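import Cfsg.Agent.H533.Wf.Kills
import Cfsg.Prelude.Def_KGroupFacts

/-!
# S3826, the rows at the prime three: generic kills (helper701, task 4036)

* `of_inner` : the automorphisms of order `p` of `K` are inner: only the configurations with `S = G ≅ K` matter;
* `false_of_quot` : `c`, `d` act non-trivially on a simple section;
* `false_of_conj` : every element of order `p` is conjugate into a proper subgroup `H` with a simple image whose kernel
  has no elements of order `p`;
* `false_of_weak` : the centraliser of `y` has index prime to `p` and `C(y) / ⟨y⟩` is simple;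
* `card_le` : `|G| ≤ |P| |C(c)| |C(d)|`.
-/

set_option autoImplicit false
set_option linter.unusedSectionVars false

namespace Cfsg.Agent.H701.Wf

universe u v w

open Subgroup Cfsg Cfsg.Agent.H533.T5 Cfsg.Agent.H533.Wf

section

variable {p : ℕ} {G : Type u} [Group G] [Finite G] {S : Subgroup G} {C D : Set G}

/-- the automorphisms of order `p` of `K` are inner -/
theorem of_inner [Fact p.Prime] {K : Type v} [Group K]
    (hin : ∀ x : MulAut K, orderOf x = p → ∃ a : K, x = MulAut.conj a)
    (h : ∀ (G : Type u) [Group G] [Finite G] (S : Subgroup G) (C D : Set G), Cfg p S C D → IsSimpleGroup G →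
      Nonempty (G ≃* K) → False) :
    WfRow.{u, v} p K := by
  rintro G _ _ S C D hcfg ⟨e⟩
  have hSn := hcfg.normal
  have hS : ∀ c : G, orderOf c = p → c ∈ S := by
    intro c hc
    let φ : G →* MulAut S := MulAut.conjNormal
    have hφ : Function.Injective φ := by
      rw [injective_iff_map_eq_one]
      intro g hg
      have h1 : g ∈ Subgroup.centralizer (S : Set G) := by
        rw [Subgroup.mem_centralizer_iff]
        intro s hs
        have h2 : (φ g) ⟨s, hs⟩ = ⟨s, hs⟩ := by rw [hg]; rfl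
        have h3 : g * s * g⁻¹ = s := by
          have := congrArg Subtype.val h2
          rwa [MulAut.conjNormal_apply] at this
        calc s * g = (g * s * g⁻¹) * g := by rw [h3]
          _ = g * s := by group
      rwa [hcfg.cent, Subgroup.mem_bot] at h1
    obtain ⟨a, ha⟩ := hin (MulAut.congr e (φ c)) (by
      rw [MulEquiv.orderOf_eq, orderOf_injective φ hφ, hc])
    have h1 : φ c = φ (e.symm a : G) := by
      apply (MulAut.congr e).injective
      rw [ha]
      apply MulEquiv.ext
      intro k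
      have h2 : (MulAut.congr e) (φ (e.symm a : G)) k = e (φ (e.symm a : G) (e.symm k)) := rfl
      rw [h2]
      have h3 : φ (e.symm a : G) (e.symm k) = e.symm a * e.symm k * (e.symm a)⁻¹ := by
        apply Subtype.ext
        rw [MulAut.conjNormal_apply]
        rfl
      rw [h3, map_mul, map_mul, map_inv, e.apply_symm_apply, e.apply_symm_apply, MulAut.conj_apply]
    rw [hφ h1]
    exact (e.symm a).2
  by_cases hcom : ∀ c ∈ C, ∀ d ∈ D, Commute c d
  · exact hcfg.false_of_commute hcom
  · push Not at hcom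
    obtain ⟨c, hc, d, hd, hcd⟩ := hcom
    have htop : S = ⊤ := hcfg.sup_eq_top hc hd hcd le_rfl (hS c (hcfg.ordC c hc)) (hS d (hcfg.ordD d hd))
    have e2 : S ≃* G := (MulEquiv.subgroupCongr htop).trans Subgroup.topEquiv
    have := hcfg.simple
    exact h G S C D hcfg e2.symm.isSimpleGroup ⟨e2.symm.trans e⟩

/-- automorphisms of order three are inner if `|Out| ≤ 2` -/
theorem inner_of_card {X : Type v} [Group X] [Finite X] (h : Nat.card (Cfsg.Out X) ≤ 2) (x : MulAut X)
    (hx : orderOf x = 3) : ∃ a : X, x = MulAut.conj a := by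
  have h1 : orderOf (QuotientGroup.mk x : Cfsg.Out X) ∣ 3 :=
    hx ▸ orderOf_map_dvd (QuotientGroup.mk' _) x
  have hf : Finite (Cfsg.Out X) := Quotient.finite _
  have h2 : orderOf (QuotientGroup.mk x : Cfsg.Out X) ≤ 2 := by
    have h4 : orderOf (QuotientGroup.mk x : Cfsg.Out X) ≤ Nat.card (Cfsg.Out X) :=
      Nat.le_of_dvd Nat.card_pos (orderOf_dvd_natCard _)
    exact h4.trans h
  have h3 : orderOf (QuotientGroup.mk x : Cfsg.Out X) = 1 := by
    rcases (Nat.dvd_prime Nat.prime_three).1 h1 with h3 | h3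
    · exact h3
    · omega
  rw [orderOf_eq_one_iff] at h3
  have h4 := (QuotientGroup.eq_one_iff x).1 h3
  obtain ⟨a, ha⟩ := h4
  exact ⟨a, ha.symm⟩

/-- the row of a group with `|Out| ≤ 2` at the prime three -/
theorem of_out {K : Type v} [Group K] {X : Type w} [Group X] [Finite X] (e : K ≃* X)
    (hout : Nat.card (Cfsg.Out X) ≤ 2)
    (h : ∀ (G : Type u) [Group G] [Finite G] (S : Subgroup G) (C D : Set G), Cfg 3 S C D → IsSimpleGroup G →
      Nonempty (G ≃* K) → False) :
    WfRow.{u, v} 3 K := by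
  have : Fact (Nat.Prime 3) := ⟨Nat.prime_three⟩
  refine of_inner (fun x hx => ?_) h
  obtain ⟨a, ha⟩ := inner_of_card hout (MulAut.congr e x) (by rw [MulEquiv.orderOf_eq, hx])
  refine ⟨e.symm a, ?_⟩
  apply (MulAut.congr e).injective
  rw [ha]
  apply MulEquiv.ext
  intro k
  have h2 : (MulAut.congr e) (MulAut.conj (e.symm a)) k = e (MulAut.conj (e.symm a) (e.symm k)) := rfl
  rw [h2, MulAut.conj_apply, MulAut.conj_apply, map_mul, map_mul, map_inv, e.apply_symm_apply, e.apply_symm_apply]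

/-- a simple section -/
theorem false_of_quot [Fact p.Prime] (h : Cfg p S C D) {H : Subgroup G} (hH : H ≠ ⊤) {Y : Type v} [Group Y]
    (f : H →* Y) (hf : Function.Surjective f) (hs : IsSimpleGroup Y) (hnc : ¬ ∀ a b : Y, a * b = b * a) {c d : G}
    (hc : c ∈ C) (hd : d ∈ D) (hcH : c ∈ H) (hdH : d ∈ H) (hcf : f ⟨c, hcH⟩ ≠ 1) (hdf : f ⟨d, hdH⟩ ≠ 1) : False := by
  let e : (H ⧸ f.ker) ≃* Y := QuotientGroup.quotientKerEquivOfSurjective f hf
  have hs' : IsSimpleGroup (H ⧸ f.ker) := e.isSimpleGroup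
  have hst : IsSimpleGroup (⊤ : Subgroup (H ⧸ f.ker)) := (Subgroup.topEquiv (G := H ⧸ f.ker)).isSimpleGroup
  have hnc' : ¬ ∀ a b : H ⧸ f.ker, a * b = b * a := by
    intro h1
    apply hnc
    intro a b
    have h2 := congrArg e (h1 (e.symm a) (e.symm b))
    rwa [map_mul, map_mul, e.apply_symm_apply, e.apply_symm_apply] at h2
  have hL : QS (⊤ : Subgroup (H ⧸ f.ker)) := by
    refine QS.of_simple hst ?_
    intro h1
    apply hnc'
    intro a b
    exact congrArg Subtype.val (h1.is_comm.comm (⟨a, Subgroup.mem_top a⟩ : (⊤ : Subgroup (H ⧸ f.ker))) ⟨b, Subgroup.mem_top b⟩)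
  have hcen : Subgroup.centralizer ((⊤ : Subgroup (H ⧸ f.ker)) : Set (H ⧸ f.ker)) = ⊥ := by
    have h1 : Subgroup.centralizer ((⊤ : Subgroup (H ⧸ f.ker)) : Set (H ⧸ f.ker)) = Subgroup.center (H ⧸ f.ker) := by
      rw [Subgroup.coe_top, Subgroup.centralizer_univ]
    rw [h1]
    rcases (inferInstance : (Subgroup.center (H ⧸ f.ker)).Normal).eq_bot_or_eq_top with h2 | h2
    · exact h2
    · exfalso
      apply hnc'
      intro a b
      have h3 : b ∈ Subgroup.center (H ⧸ f.ker) := by rw [h2]; exact Subgroup.mem_top b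
      exact Subgroup.mem_center_iff.mp h3 a
  refine h.false_of_hom hH (QuotientGroup.mk' f.ker) (QuotientGroup.mk'_surjective _) (L := ⊤) inferInstance hL hc hd hcH
    hdH ?_ ?_
  · rw [hcen, Subgroup.mem_bot]
    intro h1
    exact hcf ((MonoidHom.mem_ker).1 ((QuotientGroup.eq_one_iff _).mp h1))
  · rw [hcen, Subgroup.mem_bot]
    intro h1
    exact hdf ((MonoidHom.mem_ker).1 ((QuotientGroup.eq_one_iff _).mp h1))

/-- every element of order `p` is conjugate into `H` -/
theorem false_of_conj [Fact p.Prime] (h : Cfg p S C D) {H : Subgroup G} (hH : H ≠ ⊤) {Y : Type v} [Group Y]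
    (f : H →* Y) (hf : Function.Surjective f) (hs : IsSimpleGroup Y) (hnc : ¬ ∀ a b : Y, a * b = b * a)
    (hk : ∀ x : H, orderOf x = p → f x ≠ 1) (hconj : ∀ x : G, orderOf x = p → ∃ g : G, g * x * g⁻¹ ∈ H) : False := by
  obtain ⟨c, hc⟩ := h.neC
  obtain ⟨d, hd⟩ := h.neD
  obtain ⟨g, hg⟩ := hconj c (h.ordC c hc)
  obtain ⟨k, hk'⟩ := hconj d (h.ordD d hd)
  have hc' := h.conjC g c hc
  have hd' := h.conjD k d hd
  refine false_of_quot h hH f hf hs hnc hc' hd' hg hk' (hk _ ?_) (hk _ ?_)
  · rw [Subgroup.orderOf_mk]; exact h.ordC _ hc'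
  · rw [Subgroup.orderOf_mk]; exact h.ordD _ hd'

/-- one class of involutions -/
theorem false_of_invol [Fact p.Prime] (h : Cfg p S C D) {t : G} (hH : centralizer ({t} : Set G) ≠ ⊤)
    {Y : Type v} [Group Y] (f : centralizer ({t} : Set G) →* Y) (hf : Function.Surjective f) (hs : IsSimpleGroup Y)
    (hnc : ¬ ∀ a b : Y, a * b = b * a)
    (hk : ∀ x : centralizer ({t} : Set G), orderOf x = p → f x ≠ 1)
    (hone : ∀ s : G, orderOf s = 2 → ∃ g : G, g * s * g⁻¹ = t)
    (hinv : ∀ x : G, orderOf x = p → ∃ s : G, orderOf s = 2 ∧ s * x = x * s) : False := by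
  refine false_of_conj h hH f hf hs hnc hk fun x hx => ?_
  obtain ⟨s, hs2, hsx⟩ := hinv x hx
  obtain ⟨g, hg⟩ := hone s hs2
  refine ⟨g, ?_⟩
  rw [mem_centralizer_singleton_iff, ← hg]
  calc g * x * g⁻¹ * (g * s * g⁻¹) = g * (x * s) * g⁻¹ := by group
    _ = g * (s * x) * g⁻¹ := by rw [hsx]
    _ = _ := by group

/-- a Sylow subgroup inside a subgroup of index prime to `p` -/
theorem exists_sylow_le [Fact p.Prime] {H : Subgroup G} (hi : ¬ p ∣ H.index) :
    ∃ P : Sylow p G, (P : Subgroup G) ≤ H := by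
  obtain ⟨Q⟩ : Nonempty (Sylow p H) := inferInstance
  have hQ : IsPGroup p ↥((Q : Subgroup H).map H.subtype) := Q.isPGroup'.map _
  have hc : ¬ p ∣ ((Q : Subgroup H).map H.subtype).index := by
    rw [← relIndex_mul_index (map_subtype_le (Q : Subgroup H)), (Fact.out : p.Prime).dvd_mul, not_or]
    refine ⟨?_, hi⟩
    have h1 : ((Q : Subgroup H).map H.subtype).relIndex H = (Q : Subgroup H).index := by
      rw [relIndex, subgroupOf, comap_map_eq_self_of_injective H.subtype_injective]
    rw [h1]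
    exact Q.not_dvd_index
  exact ⟨hQ.toSylow hc, map_subtype_le _⟩

/-- the centraliser of `y` has index prime to `p`, `C(y) / ⟨y⟩` is simple -/
theorem false_of_weak [Fact p.Prime] (h : Cfg p S C D) {y : G} (hH : centralizer ({y} : Set G) ≠ ⊤)
    (hi : ¬ p ∣ (centralizer ({y} : Set G)).index) {Y : Type v} [Group Y] (f : centralizer ({y} : Set G) →* Y)
    (hf : Function.Surjective f) (hs : IsSimpleGroup Y) (hnc : ¬ ∀ a b : Y, a * b = b * a)
    (hk : ∀ x : centralizer ({y} : Set G), f x = 1 → (x : G) ∈ zpowers y) : False := by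
  obtain ⟨P, hP⟩ := exists_sylow_le hi
  have key : ∀ x ∈ zpowers y, ∀ z ∈ (P : Subgroup G), Commute x z := by
    intro x hx z hz
    obtain ⟨n, rfl⟩ := mem_zpowers_iff.1 hx
    have h1 : Commute z y := mem_centralizer_singleton_iff.1 (hP hz)
    exact (h1.zpow_right n).symm
  by_cases h1 : ∃ c ∈ C, ∃ hcP : c ∈ (P : Subgroup G), f ⟨c, hP hcP⟩ ≠ 1
  · by_cases h2 : ∃ d ∈ D, ∃ hdP : d ∈ (P : Subgroup G), f ⟨d, hP hdP⟩ ≠ 1
    · obtain ⟨c, hc, hcP, hcf⟩ := h1
      obtain ⟨d, hd, hdP, hdf⟩ := h2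
      exact false_of_quot h hH f hf hs hnc hc hd (hP hcP) (hP hdP) hcf hdf
    · refine h.false_of_sylow P fun c _ hcP d hd hdP => ?_
      have h3 : f ⟨d, hP hdP⟩ = 1 := by
        by_contra h3
        exact h2 ⟨d, hd, hdP, h3⟩
      exact (key d (hk _ h3) c hcP).symm
  · refine h.false_of_sylow P fun c hc hcP d _ hdP => ?_
    have h3 : f ⟨c, hP hcP⟩ = 1 := by
      by_contra h3
      exact h1 ⟨c, hc, hcP, h3⟩
    exact key c (hk _ h3) d hdP

/-- conjugates -/
theorem inj_conj (c : G) : Function.Injective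
    (fun q : G ⧸ centralizer ({c} : Set G) => q.out * c * q.out⁻¹) := by
  intro a b hab
  have h1 : a.out * c * a.out⁻¹ = b.out * c * b.out⁻¹ := hab
  rw [← QuotientGroup.out_eq' a, ← QuotientGroup.out_eq' b, QuotientGroup.eq, mem_centralizer_singleton_iff]
  calc a.out⁻¹ * b.out * c = a.out⁻¹ * (b.out * c * b.out⁻¹) * b.out := by group
    _ = a.out⁻¹ * (a.out * c * a.out⁻¹) * b.out := by rw [h1]
    _ = _ := by group

/-- **the counting argument** -/
theorem card_le [Fact p.Prime] (h : Hyp p C D) (P : Sylow p G) {c d : G} (hc : c ∈ C) (hd : d ∈ D) :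
    Nat.card G ≤ Nat.card P * (Nat.card (centralizer ({c} : Set G)) * Nat.card (centralizer ({d} : Set G))) := by
  classical
  have key : ∀ (a : G ⧸ centralizer ({c} : Set G)) (b : G ⧸ centralizer ({d} : Set G)), ∃ Q : Sylow p G,
      a.out * c * a.out⁻¹ ∈ Q ∧ b.out * d * b.out⁻¹ ∈ Q := fun a b =>
    h.exists_sylow (h.conjC _ c hc) (h.conjD _ d hd)
  choose Q hQ1 hQ2 using key
  let F : (G ⧸ centralizer ({c} : Set G)) × (G ⧸ centralizer ({d} : Set G)) → Σ R : Sylow p G, R × R :=
    fun x => ⟨Q x.1 x.2, ⟨_, hQ1 x.1 x.2⟩, ⟨_, hQ2 x.1 x.2⟩⟩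
  have hF : Function.Injective F := by
    have e1 : ∀ x, ((F x).2.1 : G) = x.1.out * c * x.1.out⁻¹ := fun x => rfl
    have e2 : ∀ x, ((F x).2.2 : G) = x.2.out * d * x.2.out⁻¹ := fun x => rfl
    intro x y hxy
    apply Prod.ext
    · apply inj_conj c
      change x.1.out * c * x.1.out⁻¹ = y.1.out * c * y.1.out⁻¹
      rw [← e1, ← e1, hxy]
    · apply inj_conj d
      change x.2.out * d * x.2.out⁻¹ = y.2.out * d * y.2.out⁻¹
      rw [← e2, ← e2, hxy]
  have h1 := Nat.card_le_card_of_injective F hF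
  have hcardR : ∀ R : Sylow p G, Nat.card R = Nat.card P := fun R => by
    rw [R.card_eq_multiplicity, P.card_eq_multiplicity]
  have hft : Fintype (Sylow p G) := Fintype.ofFinite _
  rw [Nat.card_prod, Nat.card_sigma, Finset.sum_congr rfl (g := fun _ => Nat.card P * Nat.card P) (fun R _ => by
    rw [Nat.card_prod, hcardR R]), Finset.sum_const, Finset.card_univ, ← Nat.card_eq_fintype_card, smul_eq_mul] at h1
  have h2 : Nat.card (Sylow p G) * Nat.card P ≤ Nat.card G := by
    rw [P.card_eq_index_normalizer]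
    calc (normalizer ((P : Subgroup G) : Set G)).index * Nat.card P
        ≤ (normalizer ((P : Subgroup G) : Set G)).index * Nat.card ↥(normalizer ((P : Subgroup G) : Set G)) :=
          Nat.mul_le_mul_left _ (Nat.card_le_card_of_injective _ (Subgroup.inclusion_injective le_normalizer))
      _ = Nat.card G := by rw [mul_comm, Subgroup.card_mul_index]
  have h3 := (centralizer ({c} : Set G)).card_mul_index
  have h4 := (centralizer ({d} : Set G)).card_mul_index
  rw [Subgroup.index] at h3 h4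
  refine Nat.le_of_mul_le_mul_left ?_ (Nat.card_pos (α := G))
  calc Nat.card G * Nat.card G
      = (Nat.card (G ⧸ centralizer ({c} : Set G)) * Nat.card (G ⧸ centralizer ({d} : Set G))) *
        (Nat.card (centralizer ({c} : Set G)) * Nat.card (centralizer ({d} : Set G))) := by
        nth_rw 1 [← h3]; rw [← h4]; ring
    _ ≤ (Nat.card (Sylow p G) * (Nat.card P * Nat.card P)) *
        (Nat.card (centralizer ({c} : Set G)) * Nat.card (centralizer ({d} : Set G))) := Nat.mul_le_mul_right _ h1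
    _ = (Nat.card (Sylow p G) * Nat.card P) * (Nat.card P *
        (Nat.card (centralizer ({c} : Set G)) * Nat.card (centralizer ({d} : Set G)))) := by ring
    _ ≤ Nat.card G * (Nat.card P *
        (Nat.card (centralizer ({c} : Set G)) * Nat.card (centralizer ({d} : Set G)))) := Nat.mul_le_mul_right _ h2

/-! ### transport -/

variable {X : Type w} [Group X]

/-- the homomorphism of the preimage -/
def toH (e : G ≃* X) (H : Subgroup X) : H.comap e.toMonoidHom →* H :=
  (e.toMonoidHom.comp (H.comap e.toMonoidHom).subtype).codRestrict H fun x => x.2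

theorem toH_coe (e : G ≃* X) (H : Subgroup X) (x : H.comap e.toMonoidHom) : (toH e H x : X) = e x := rfl

theorem orderOf_toH (e : G ≃* X) (H : Subgroup X) (x : H.comap e.toMonoidHom) : orderOf (toH e H x) = orderOf x := by
  rw [← Subgroup.orderOf_coe, toH_coe, MulEquiv.orderOf_eq, Subgroup.orderOf_coe]

/-- the homomorphism on the preimage -/
def comapHom (e : G ≃* X) (H : Subgroup X) {Y : Type v} [Group Y] (f : H →* Y) : H.comap e.toMonoidHom →* Y :=
  f.comp (toH e H)

theorem comapHom_apply (e : G ≃* X) (H : Subgroup X) {Y : Type v} [Group Y] (f : H →* Y)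
    (x : H.comap e.toMonoidHom) : comapHom e H f x = f (toH e H x) := rfl

theorem comapHom_surj (e : G ≃* X) (H : Subgroup X) {Y : Type v} [Group Y] (f : H →* Y) (hf : Function.Surjective f) :
    Function.Surjective (comapHom e H f) := by
  intro y
  obtain ⟨c, rfl⟩ := hf y
  refine ⟨⟨e.symm c, ?_⟩, ?_⟩
  · rw [mem_comap]
    change e (e.symm c) ∈ H
    rw [e.apply_symm_apply]
    exact c.2
  · rw [comapHom_apply]
    congr 1
    exact Subtype.ext (e.apply_symm_apply _)

theorem comap_ne_top (e : G ≃* X) {H : Subgroup X} (hH : H ≠ ⊤) : H.comap e.toMonoidHom ≠ ⊤ := by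
  intro h1
  apply hH
  rw [eq_top_iff]
  intro x _
  have h2 : e.symm x ∈ H.comap e.toMonoidHom := by rw [h1]; exact mem_top _
  rw [mem_comap] at h2
  change e (e.symm x) ∈ H at h2
  rwa [e.apply_symm_apply] at h2

theorem comap_centralizer (e : G ≃* X) (y : X) :
    (centralizer ({y} : Set X)).comap e.toMonoidHom = centralizer ({e.symm y} : Set G) := by
  ext g
  rw [mem_comap, mem_centralizer_singleton_iff, mem_centralizer_singleton_iff]
  change e g * y = y * e g ↔ _
  constructor
  · intro h1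
    apply e.injective
    rw [map_mul, map_mul, e.apply_symm_apply, h1]
  · intro h1
    have h2 := congrArg e h1
    rwa [map_mul, map_mul, e.apply_symm_apply] at h2

/-- every element of order `p` of `X ≅ G` is conjugate into `H` -/
theorem false_of_conj_equiv [Fact p.Prime] (h : Cfg p S C D) (e : G ≃* X) {H : Subgroup X} (hH : H ≠ ⊤)
    {Y : Type v} [Group Y] (f : H →* Y) (hf : Function.Surjective f) (hs : IsSimpleGroup Y)
    (hnc : ¬ ∀ a b : Y, a * b = b * a) (hk : ∀ x : H, orderOf x = p → f x ≠ 1)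
    (hconj : ∀ x : X, orderOf x = p → ∃ g : X, g * x * g⁻¹ ∈ H) : False := by
  refine false_of_conj h (comap_ne_top e hH) (comapHom e H f) (comapHom_surj e H f hf) hs hnc ?_ ?_
  · intro x hx
    rw [comapHom_apply]
    exact hk _ (by rw [orderOf_toH, hx])
  · intro x hx
    obtain ⟨g, hg⟩ := hconj (e x) (by rw [MulEquiv.orderOf_eq, hx])
    refine ⟨e.symm g, ?_⟩
    rw [mem_comap]
    change e (e.symm g * x * (e.symm g)⁻¹) ∈ H
    rwa [map_mul, map_mul, map_inv, e.apply_symm_apply]

/-- every element of order `p` of `X ≅ G` has a conjugate in `H` outside of the kernel -/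
theorem false_of_out_equiv [Fact p.Prime] (h : Cfg p S C D) (e : G ≃* X) {H : Subgroup X} (hH : H ≠ ⊤)
    {Y : Type v} [Group Y] (f : H →* Y) (hf : Function.Surjective f) (hs : IsSimpleGroup Y)
    (hnc : ¬ ∀ a b : Y, a * b = b * a)
    (hout : ∀ x : X, orderOf x = p → ∃ (g : X) (hg : g * x * g⁻¹ ∈ H), f ⟨g * x * g⁻¹, hg⟩ ≠ 1) : False := by
  have key : ∀ c : G, orderOf c = p → ∃ (g : G) (hg : g * c * g⁻¹ ∈ H.comap e.toMonoidHom),
      comapHom e H f ⟨g * c * g⁻¹, hg⟩ ≠ 1 := by
    intro c hc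
    obtain ⟨g, hg, hgf⟩ := hout (e c) (by rw [MulEquiv.orderOf_eq, hc])
    have h1 : e (e.symm g * c * (e.symm g)⁻¹) = g * e c * g⁻¹ := by
      rw [map_mul, map_mul, map_inv, e.apply_symm_apply]
    have h2 : e.symm g * c * (e.symm g)⁻¹ ∈ H.comap e.toMonoidHom := by
      rw [mem_comap]
      change e (e.symm g * c * (e.symm g)⁻¹) ∈ H
      rw [h1]
      exact hg
    refine ⟨e.symm g, h2, ?_⟩
    rw [comapHom_apply]
    have h3 : toH e H ⟨_, h2⟩ = ⟨g * e c * g⁻¹, hg⟩ := Subtype.ext h1
    rw [h3]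
    exact hgf
  obtain ⟨c, hc⟩ := h.neC
  obtain ⟨d, hd⟩ := h.neD
  obtain ⟨g, hg, hgf⟩ := key c (h.ordC c hc)
  obtain ⟨k, hk, hkf⟩ := key d (h.ordD d hd)
  exact false_of_quot h (comap_ne_top e hH) (comapHom e H f) (comapHom_surj e H f hf) hs hnc (h.conjC g c hc)
    (h.conjD k d hd) hg hk hgf hkf

/-- one class of involutions -/
theorem false_of_invol_equiv [Fact p.Prime] (h : Cfg p S C D) (e : G ≃* X) {t : X}
    (hH : centralizer ({t} : Set X) ≠ ⊤)
    {Y : Type v} [Group Y] (f : centralizer ({t} : Set X) →* Y) (hf : Function.Surjective f) (hs : IsSimpleGroup Y)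
    (hnc : ¬ ∀ a b : Y, a * b = b * a)
    (hk : ∀ x : centralizer ({t} : Set X), orderOf x = p → f x ≠ 1)
    (hone : ∀ s : X, orderOf s = 2 → ∃ g : X, g * s * g⁻¹ = t)
    (hinv : ∀ x : X, orderOf x = p → ∃ s : X, orderOf s = 2 ∧ s * x = x * s) : False := by
  refine false_of_conj_equiv h e hH f hf hs hnc hk fun x hx => ?_
  obtain ⟨s, hs2, hsx⟩ := hinv x hx
  obtain ⟨g, hg⟩ := hone s hs2
  refine ⟨g, ?_⟩
  rw [mem_centralizer_singleton_iff, ← hg]
  calc g * x * g⁻¹ * (g * s * g⁻¹) = g * (x * s) * g⁻¹ := by group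
    _ = g * (s * x) * g⁻¹ := by rw [hsx]
    _ = _ := by group

/-- the centraliser of `y` has index prime to `p`, `C(y) / ⟨y⟩` is simple -/
theorem false_of_weak_equiv [Fact p.Prime] (h : Cfg p S C D) (e : G ≃* X) {y : X}
    (hH : centralizer ({y} : Set X) ≠ ⊤)
    (hi : ¬ p ∣ (centralizer ({y} : Set X)).index) {Y : Type v} [Group Y] (f : centralizer ({y} : Set X) →* Y)
    (hf : Function.Surjective f) (hs : IsSimpleGroup Y) (hnc : ¬ ∀ a b : Y, a * b = b * a)
    (hk : ∀ x : centralizer ({y} : Set X), f x = 1 → (x : X) ∈ zpowers y) : False := by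
  have e1 := comap_centralizer e y
  have hi' : ¬ p ∣ (centralizer ({e.symm y} : Set G)).index := by
    rw [← e1, index_comap_of_surjective _ e.surjective]
    exact hi
  have hne : centralizer ({e.symm y} : Set G) ≠ ⊤ := by
    rw [← e1]
    exact comap_ne_top e hH
  let i : centralizer ({e.symm y} : Set G) ≃* (centralizer ({y} : Set X)).comap e.toMonoidHom :=
    MulEquiv.subgroupCongr e1.symm
  refine false_of_weak h hne hi' ((comapHom e _ f).comp i.toMonoidHom)
    ((comapHom_surj e _ f hf).comp i.surjective) hs hnc ?_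
  intro x hx
  have h1 := hk (toH e _ (i x)) hx
  obtain ⟨n, hn⟩ := mem_zpowers_iff.1 h1
  have h2 : (toH e _ (i x) : X) = e x := rfl
  rw [h2] at hn
  rw [mem_zpowers_iff]
  refine ⟨n, ?_⟩
  apply e.injective
  rw [map_zpow, e.apply_symm_apply, hn]

/-- the orders of the centralisers -/
theorem card_centralizer_congr (e : G ≃* X) (g : G) :
    Nat.card (centralizer ({g} : Set G)) = Nat.card (centralizer ({e g} : Set X)) := by
  have h1 := comap_centralizer e (e g)
  rw [e.symm_apply_apply] at h1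
  rw [← h1]
  refine Nat.card_eq_of_bijective (toH e (centralizer ({e g} : Set X))) ⟨?_, ?_⟩
  · intro a b hab
    exact Subtype.ext (e.injective (congrArg Subtype.val hab))
  · rintro ⟨b, hb⟩
    refine ⟨⟨e.symm b, ?_⟩, Subtype.ext (e.apply_symm_apply b)⟩
    rw [mem_comap]
    change e (e.symm b) ∈ _
    rwa [e.apply_symm_apply]

end

end Cfsg.Agent.H701.Wf
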