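import Cfsg.Agent.H701.Wf.HNB
import Cfsg.Agent.S2082

/-!
# S3826, the row `HN` at the prime three (helper701, task 4036)

* `card_X1` : `3 ^ 6` does not divide `|C(X1)|`;
* `exists_invol` : every element of order three of HN commutes with an involution;
* `wf_hn` : the row.
-/

set_option autoImplicit false

namespace Cfsg.Agent.H701.Wf.HN

open Subgroup Cfsg Cfsg.Agent
open Cfsg.Agent.H478.HNThree
open Cfsg.Agent.KFacts.HN (A5)
open Cfsg.Agent.CpAutHN
open Cfsg.Agent.CpAutHN.Alt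
open Cfsg.Agent.CpAutHN.Tr
open Cfsg.Agent.CpAutHN.Pairs
open Cfsg.Agent.H569.HNThree (card_G finite_G MM ss order_ss S3X3 comm_core index_X3 mk mk_core sg sg_mem conj_Φ order_mk
  exists_sqrt V3 inv_VX)
open Equiv.Perm (mem_alternatingGroup)

attribute [local instance] Cfsg.Agent.H569.HNThree.finite_G

/-- `X1` is not conjugate into `⟨X3⟩` -/
theorem not_mem_zpowers {g : G} (h : g * X1 * g⁻¹ ∈ zpowers X3) : False := by
  obtain ⟨n, hn⟩ := mem_zpowers_iff.1 h
  have h3 : X3 ^ n = X3 ^ (n % 3) := by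
    have h5 : X3 ^ (3 : ℤ) = 1 := by
      have := pow_orderOf_eq_one X3
      rw [order_X3] at this
      exact_mod_cast this
    conv_lhs => rw [← Int.emod_add_mul_ediv n 3]
    rw [zpow_add, zpow_mul, h5, one_zpow, mul_one]
  rw [h3] at hn
  have hr : n % 3 = 0 ∨ n % 3 = 1 ∨ n % 3 = 2 := by omega
  rcases hr with hr | hr | hr
  · rw [hr, zpow_zero] at hn
    have h4 := conj_eq_one_iff.1 hn.symm
    have h5 := order_X1
    rw [h4, orderOf_one] at h5
    norm_num at h5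
  · rw [hr, zpow_one] at hn
    exact not_conj (isConj_iff.2 ⟨g, hn.symm⟩)
  · have h5 : X3 ^ (2 : ℤ) = X3⁻¹ := by
      rw [eq_inv_iff_mul_eq_one, ← zpow_add_one]
      have := pow_orderOf_eq_one X3
      rw [order_X3] at this
      exact_mod_cast this
    rw [hr, h5] at hn
    apply not_conj
    refine isConj_iff.2 ⟨V3⁻¹ * g, ?_⟩
    calc V3⁻¹ * g * X1 * (V3⁻¹ * g)⁻¹ = V3⁻¹ * (g * X1 * g⁻¹) * V3 := by group
      _ = V3⁻¹ * (V3 * X3 * V3⁻¹) * V3 := by rw [← hn, inv_VX]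
      _ = X3 := by group

/-- **`X1` is not 3-central** -/
theorem card_X1 : ¬ 3 ^ 6 ∣ Nat.card (centralizer ({X1} : Set G)) := by
  intro h
  have : Fact (Nat.Prime 3) := ⟨Nat.prime_three⟩
  have hi : ¬ 3 ∣ (centralizer ({X1} : Set G)).index := by
    rintro ⟨j, hj⟩
    obtain ⟨i, hi⟩ := h
    have h1 := (centralizer ({X1} : Set G)).card_mul_index
    rw [card_G, hi, hj] at h1
    have h2 : (3 ^ 7 : ℕ) ∣ 273030912000000 := ⟨i * j, by rw [← h1]; ring⟩
    revert h2
    norm_num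
  obtain ⟨S₁, hS₁⟩ := Cfsg.Agent.H701.Wf.exists_sylow_le hi
  obtain ⟨S₂, hS₂⟩ := Cfsg.Agent.H701.Wf.exists_sylow_le index_X3
  obtain ⟨g, hg⟩ := MulAction.exists_smul_eq G S₁ S₂
  have hz : ∀ a ∈ (S₂ : Subgroup G), a * (g * X1 * g⁻¹) = (g * X1 * g⁻¹) * a := by
    intro a ha
    rw [← hg, Sylow.coe_subgroup_smul, mem_pointwise_smul_iff_inv_smul_mem] at ha
    have h1 : (MulAut.conj g)⁻¹ • a = g⁻¹ * a * g := by
      rw [← map_inv, MulAut.smul_def, MulAut.conj_apply, inv_inv]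
    rw [h1] at ha
    have h2 := mem_centralizer_singleton_iff.1 (hS₁ ha)
    calc a * (g * X1 * g⁻¹) = g * (g⁻¹ * a * g * X1) * g⁻¹ := by group
      _ = g * (X1 * (g⁻¹ * a * g)) * g⁻¹ := by rw [h2]
      _ = _ := by group
  let P : Sylow 3 MM := S₂.subtype hS₂
  have hPm : ∀ a : MM, a ∈ (P : Subgroup MM) ↔ (a : G) ∈ (S₂ : Subgroup G) := fun a => Iff.rfl
  have hxP : xx ∈ (P : Subgroup MM) := Q3_le P xx_mem
  have hX : X3 * (g * X1 * g⁻¹) = (g * X1 * g⁻¹) * X3 := hz X3 ((hPm xx).1 hxP)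
  have hzM : g * X1 * g⁻¹ ∈ MM := mem_centralizer_singleton_iff.2 hX.symm
  refine no_central (z := ⟨g * X1 * g⁻¹, hzM⟩) (by rw [Subgroup.orderOf_mk]; exact order_conj order_X1 g) ?_ P
    fun a ha => Subtype.ext (hz a ((hPm a).1 ha))
  intro h1
  obtain ⟨n, hn⟩ := mem_zpowers_iff.1 h1
  refine not_mem_zpowers (g := g) (mem_zpowers_iff.2 ⟨n, ?_⟩)
  exact congrArg Subtype.val hn

/-! ### permutations of order three -/

/-- the even involutions commuting with a permutation of order three -/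
theorem exists_perm {a : Equiv.Perm (Fin 12)} (ha : orderOf a = 3) :
    ∃ t ∈ alternatingGroup (Fin 12), orderOf t = 2 ∧ a * t = t * a := by
  have : Fact (Nat.Prime 2) := ⟨Nat.prime_two⟩
  have key : ∀ r t : Equiv.Perm (Fin 12), t ∈ alternatingGroup (Fin 12) → t * t = 1 → t ≠ 1 → r * t = t * r →
      a.cycleType = r.cycleType → ∃ t ∈ alternatingGroup (Fin 12), orderOf t = 2 ∧ a * t = t * a := by
    intro r t ht h2 h1 hc hct
    obtain ⟨g, hg⟩ := isConj_iff.1 (Equiv.Perm.isConj_iff_cycleType_eq.2 hct.symm)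
    refine ⟨g * t * g⁻¹, ?_, ?_, ?_⟩
    · rw [mem_alternatingGroup] at ht ⊢
      rw [map_mul, map_mul, ht, mul_one, ← map_mul, mul_inv_cancel, map_one]
    · have h3 : orderOf t = 2 := orderOf_eq_prime (by rw [pow_two, h2]) h1
      rw [← h3]
      exact MulEquiv.orderOf_eq (MulAut.conj g) t
    · rw [← hg]
      calc g * r * g⁻¹ * (g * t * g⁻¹) = g * (r * t) * g⁻¹ := by group
        _ = g * (t * r) * g⁻¹ := by rw [hc]
        _ = _ := by group
  obtain ⟨n, hn⟩ := Equiv.Perm.cycleType_prime_order (σ := a) (by rw [ha]; exact Nat.prime_three)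
  rw [ha] at hn
  have h1 : n + 1 ≤ 4 := by
    have h2 := a.sum_cycleType_le
    rw [hn, Multiset.sum_replicate, smul_eq_mul, Fintype.card_fin] at h2
    omega
  have hcase : n = 0 ∨ n = 1 ∨ n = 2 ∨ n = 3 := by omega
  rcases hcase with rfl | rfl | rfl | rfl
  · exact key (cy [0, 1, 2]) (cy [3, 4] * cy [5, 6]) (by rw [mem_alternatingGroup]; decide +kernel) (by decide +kernel)
      (by decide +kernel) (by decide +kernel) (by rw [hn]; decide +kernel)
  · exact key (cy [0, 1, 2] * cy [3, 4, 5]) (cy [6, 7] * cy [8, 9]) (by rw [mem_alternatingGroup]; decide +kernel)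
      (by decide +kernel) (by decide +kernel) (by decide +kernel) (by rw [hn]; decide +kernel)
  · exact key x3 s3 (by rw [mem_alternatingGroup]; decide +kernel)
      (by decide +kernel) (by decide +kernel) (by decide +kernel) (by rw [hn]; decide +kernel)
  · exact key (x3 * x1) (cy [0, 3] * cy [1, 4] * cy [2, 5] * cy [6, 9] * cy [7, 10] * cy [8, 11])
      (by rw [mem_alternatingGroup]; decide +kernel)
      (by decide +kernel) (by decide +kernel) (by decide +kernel) (by rw [hn]; decide +kernel)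

/-! ### the elements of `C(X1)` -/

/-- the centraliser of `x1` in `A12` -/
noncomputable abbrev D12 : Subgroup A12 := centralizer ({(⟨x1, x1_mem⟩ : A12)} : Set A12)

theorem card_D12 : 3 ^ 5 ∣ Nat.card ↥D12 := by
  have h0 : Nat.card ↥(centralizer ({x1} : Set (Equiv.Perm (Fin 12)))) = 3 ^ 5 * 4480 := by
    have hc : x1.cycleType = {3} := by decide +kernel
    have h := Equiv.Perm.nat_card_centralizer x1
    rw [hc] at h
    rw [h]
    decide +kernel
  have h1 : Nat.card ↥D12 = Nat.card ↥(centralizer ({x1} : Set (Equiv.Perm (Fin 12))) ⊓ alternatingGroup (Fin 12)) := by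
    have h2 : D12 = (centralizer ({x1} : Set (Equiv.Perm (Fin 12)))).subgroupOf (alternatingGroup (Fin 12)) := by
      ext y
      rw [mem_centralizer_singleton_iff, mem_subgroupOf, mem_centralizer_singleton_iff]
      exact Subtype.ext_iff
    rw [h2, ← inf_subgroupOf_right]
    exact Nat.card_congr (subgroupOfEquivOfLe inf_le_right).toEquiv
  have h3 := relIndex_mul_relIndex ⊥ (centralizer ({x1} : Set (Equiv.Perm (Fin 12))) ⊓ alternatingGroup (Fin 12))
    (centralizer ({x1} : Set (Equiv.Perm (Fin 12)))) bot_le inf_le_left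
  rw [relIndex_bot_left, relIndex_bot_left, h0, inf_comm, inf_relIndex_right] at h3
  rw [h1, inf_comm]
  have h4 : (alternatingGroup (Fin 12)).relIndex (centralizer ({x1} : Set (Equiv.Perm (Fin 12)))) ∣ 2 := by
    have h5 : (alternatingGroup (Fin 12)).index = 2 := alternatingGroup.index_eq_two
    rw [← h5]
    exact relIndex_dvd_index_of_normal _ _
  have h6 : Nat.Coprime (3 ^ 5) ((alternatingGroup (Fin 12)).relIndex (centralizer ({x1} : Set (Equiv.Perm (Fin 12))))) :=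
    Nat.Coprime.coprime_dvd_right h4 (by norm_num)
  exact h6.dvd_of_dvd_mul_right (by rw [h3]; exact Dvd.intro _ rfl)

theorem D12_le : D12.map Φ ≤ centralizer ({X1} : Set G) := by
  rintro _ ⟨a, ha, rfl⟩
  rw [mem_centralizer_singleton_iff]
  rw [SetLike.mem_coe, mem_centralizer_singleton_iff] at ha
  change Φ a * Φ _ = Φ _ * Φ a
  rw [← map_mul, ha, map_mul]

/-- **the elements of order three of `C(X1)` commute with involutions** -/
theorem invol_X1 {x : G} (hx : orderOf x = 3) (hc : x ∈ centralizer ({X1} : Set G)) :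
    ∃ t : G, orderOf t = 2 ∧ x * t = t * x := by
  have : Fact (Nat.Prime 3) := ⟨Nat.prime_three⟩
  let B : Subgroup ↥(centralizer ({X1} : Set G)) := (D12.map Φ).subgroupOf (centralizer ({X1} : Set G))
  have hB : 3 ^ 5 ∣ Nat.card B := by
    have h1 : Nat.card B = Nat.card ↥D12 := by
      rw [Nat.card_congr (subgroupOfEquivOfLe D12_le).toEquiv]
      exact (Nat.card_congr (D12.equivMapOfInjective Φ Φ_inj).toEquiv).symm
    rw [h1]
    exact card_D12
  have hi : ¬ 3 ∣ B.index := by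
    rintro ⟨j, hj⟩
    obtain ⟨i, hi⟩ := hB
    apply card_X1
    rw [← B.card_mul_index, hi, hj]
    exact ⟨i * j, by ring⟩
  obtain ⟨g, hg⟩ := H749.exists_conj_mem B hi (x := ⟨x, hc⟩) ⟨1, Subtype.ext (by
    rw [Subgroup.coe_pow, pow_one, ← hx]; exact pow_orderOf_eq_one x)⟩
  obtain ⟨a, ha, hax⟩ := mem_subgroupOf.1 hg
  have hax' : Φ a = (g : G) * x * (g : G)⁻¹ := hax
  have ho : orderOf (a : Equiv.Perm (Fin 12)) = 3 := by
    rw [Subgroup.orderOf_coe, ← orderOf_injective Φ Φ_inj, hax']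
    exact order_conj hx g
  obtain ⟨t, htm, ht2, htc⟩ := exists_perm ho
  refine ⟨(g : G)⁻¹ * Φ ⟨t, htm⟩ * g, ?_, ?_⟩
  · have h1 : orderOf (Φ ⟨t, htm⟩) = 2 := by
      rw [orderOf_injective Φ Φ_inj, Subgroup.orderOf_mk, ht2]
    rw [← h1]
    have h2 := MulEquiv.orderOf_eq (MulAut.conj (g : G)⁻¹) (Φ ⟨t, htm⟩)
    rw [MulAut.conj_apply, inv_inv] at h2
    exact h2
  · have h1 : Φ a * Φ ⟨t, htm⟩ = Φ ⟨t, htm⟩ * Φ a := by
      rw [← map_mul, ← map_mul]
      exact congrArg Φ (Subtype.ext htc)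
    rw [hax'] at h1
    calc x * ((g : G)⁻¹ * Φ ⟨t, htm⟩ * g) = (g : G)⁻¹ * ((g : G) * x * (g : G)⁻¹ * Φ ⟨t, htm⟩) * g := by group
      _ = (g : G)⁻¹ * (Φ ⟨t, htm⟩ * ((g : G) * x * (g : G)⁻¹)) * g := by rw [h1]
      _ = _ := by group

/-- the elements of order three of `OO` commute with involutions -/
theorem invol_OO {x : MM} (hx : orderOf x = 3) (h : x ∈ OO) : ∃ t : G, orderOf t = 2 ∧ (x : G) * t = t * x := by
  obtain ⟨y, hy, c, hc⟩ := exists_X1 h
  have hy' : (x : G) * (y : G) = (y : G) * x := congrArg Subtype.val hy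
  have h1 : c * (x : G) * c⁻¹ ∈ centralizer ({X1} : Set G) := by
    rw [mem_centralizer_singleton_iff, ← hc]
    calc c * (x : G) * c⁻¹ * (c * (y : G) * c⁻¹) = c * ((x : G) * (y : G)) * c⁻¹ := by group
      _ = c * ((y : G) * x) * c⁻¹ := by rw [hy']
      _ = _ := by group
  obtain ⟨t, ht, htc⟩ := invol_X1 (order_conj (by rw [Subgroup.orderOf_coe, hx]) c) h1
  refine ⟨c⁻¹ * t * c, ?_, ?_⟩
  · rw [← ht]
    have h2 := MulEquiv.orderOf_eq (MulAut.conj c⁻¹) t
    rw [MulAut.conj_apply, inv_inv] at h2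
    exact h2
  · calc (x : G) * (c⁻¹ * t * c) = c⁻¹ * (c * (x : G) * c⁻¹ * t) * c := by group
      _ = c⁻¹ * (t * (c * (x : G) * c⁻¹)) * c := by rw [htc]
      _ = _ := by group

/-- **every element of order three has a conjugate in `C(X3)` outside of the kernel** -/
theorem exists_conj_out (x : G) (hx : orderOf x = 3) :
    ∃ (g : G) (hg : g * x * g⁻¹ ∈ MM), ff ⟨g * x * g⁻¹, hg⟩ ≠ 1 := by
  have : Fact (Nat.Prime 3) := ⟨Nat.prime_three⟩
  obtain ⟨g, hg⟩ := H749.exists_conj_mem MM index_X3 (x := x) ⟨1, by rw [pow_one, ← hx, pow_orderOf_eq_one]⟩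
  by_cases h1 : ff ⟨g * x * g⁻¹, hg⟩ = 1
  · have ho : orderOf (⟨g * x * g⁻¹, hg⟩ : MM) = 3 := by rw [Subgroup.orderOf_mk]; exact order_conj hx g
    obtain ⟨t, ht, htc⟩ := invol_OO ho (mem_OO_of_ff ho h1)
    obtain ⟨k, hk, hkf⟩ := exists_out (x := g * x * g⁻¹) (order_conj hx g) ht htc
    have h2 : k * (g * x * g⁻¹) * k⁻¹ = (k * g) * x * (k * g)⁻¹ := by group
    have h3 : (k * g) * x * (k * g)⁻¹ ∈ MM := by rw [← h2]; exact hk
    refine ⟨k * g, h3, ?_⟩
    have h4 : (⟨(k * g) * x * (k * g)⁻¹, h3⟩ : MM) = ⟨k * (g * x * g⁻¹) * k⁻¹, hk⟩ := Subtype.ext h2.symm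
    rw [h4]
    exact hkf
  · exact ⟨g, hg, h1⟩

theorem MM_ne_top : MM ≠ ⊤ := by
  intro hM
  have h3 : X3 ∈ center G := mem_center_iff.2 fun g =>
    mem_centralizer_singleton_iff.1 (show g ∈ MM by rw [hM]; exact mem_top g)
  rw [center_G, mem_bot] at h3
  have h4 := order_X3
  rw [h3, orderOf_one] at h4
  exact absurd h4 (by norm_num)

end Cfsg.Agent.H701.Wf.HN

namespace Cfsg.Agent.H701.Wf

universe u v

open Cfsg Cfsg.Agent.H533.Wf

/-- **the row `HN`** -/
theorem wf_hn {K : Type v} [Group K] (h : Cfsg.Spor.IsoHN K) : WfRow.{u, v} 3 K := by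
  obtain ⟨e⟩ := h
  have hfin : Finite Cfsg.Spor.HN := Cfsg.Agent.H569.HNThree.finite_G
  refine of_out e (by rw [Cfsg.Agent.S2082.result]) ?_
  intro G _ _ S C D hcfg hs hG
  obtain ⟨f⟩ := hG
  have : Fact (Nat.Prime 3) := ⟨Nat.prime_three⟩
  refine false_of_out_equiv hcfg (f.trans e) HN.MM_ne_top HN.ff HN.ff_surj Cfsg.Agent.H478.HNThree.simple_A5 ?_
    HN.exists_conj_out
  intro h1
  exact Cfsg.Agent.H478.HNThree.not_solvable_A5 (Group.isSolvable_of_comm h1)

end Cfsg.Agent.H701.Wf
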