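import Cfsg.Agent.H478.HN3E

/-!
# S3826, the row `HN` at the prime three, I: `C(X3) → A₅` (helper701, task 4036)

* `ff : C(X3) →* A₅` surjective, trivial on the odd core `OO`, `κ` on `KK = C(X3) ∩ C(S3)`;
* `mem_OO_of_ff` : elements of order three of the kernel are in `OO`;
* `t1`, `t3` : conjugates of `X1`, `X3` in `C(X3)`, not in `OO`.
-/

set_option autoImplicit false

namespace Cfsg.Agent.H701.Wf.HN

open Subgroup Cfsg Cfsg.Agent
open Cfsg.Agent.H478.HNThree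
open Cfsg.Agent.KFacts.HN (A5 PP mem_PP ρ φA φB φ2_inj φB_inj)
open Cfsg.Agent.CpAutHN
open Cfsg.Agent.CpAutHN.LqFacts
open Cfsg.Agent.CpAutHN.PPFacts
open Cfsg.Agent.CpAutHN.Alt
open Cfsg.Agent.CpAutHN.Tr
open Cfsg.Agent.CpAutHN.Pairs
open Cfsg.Agent.H569.HNThree (card_G finite_G MM ss order_ss S3X3 comm_core index_X3 mk mk_core sg sg_mem conj_Φ order_mk
  conj_of_comm)
open Equiv.Perm (mem_alternatingGroup)

attribute [local instance] Cfsg.Agent.H569.HNThree.finite_G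

/-- `KK → C(X3) / OO` -/
noncomputable def π0 : KK →* MM ⧸ OO := (QuotientGroup.mk' OO).comp KK.subtype

theorem exists_mul (m : MM) : ∃ o ∈ OO, ∃ k : KK, m = o * (k : MM) := by
  have hsup := H569.KleinIso.core_sup order_ss comm_core
  have h2 : m ∈ OO ⊔ KK := by rw [hsup]; exact mem_top _
  obtain ⟨o, ho, k, hk, rfl⟩ := mem_sup_of_normal_left.1 h2
  exact ⟨o, ho, ⟨k, hk⟩, rfl⟩

theorem mk_mul {o : MM} (ho : o ∈ OO) (k : MM) : QuotientGroup.mk' OO (o * k) = QuotientGroup.mk' OO k := by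
  rw [map_mul, show QuotientGroup.mk' OO o = 1 from (QuotientGroup.eq_one_iff o).2 ho, one_mul]

theorem π0_surj : Function.Surjective π0 := by
  intro m
  obtain ⟨m, rfl⟩ := QuotientGroup.mk'_surjective OO m
  obtain ⟨o, ho, k, rfl⟩ := exists_mul m
  exact ⟨k, (mk_mul ho k).symm⟩

/-- `X3` as an element of `KK` -/
noncomputable def xk : KK := ⟨xx, mem_centralizer_singleton_iff.2 (xx_comm ss).symm⟩

theorem f0_xk : f0 xk = X0 := Subtype.ext (f0_coe xk)

theorem κ_xk : κ xk = 1 := by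
  obtain ⟨a, -, h1⟩ := κ_spec xk
  rw [f0_xk, ρ_X0, ← mul_one (φA c0), ← map_one φB] at h1
  exact ((φ2_inj h1).2).symm

theorem κ_of_mem {k : KK} (hk : (k : MM) ∈ OO) : κ k = 1 := by
  obtain ⟨n, hn⟩ := mem_zpowers_iff.1 (inf_OO hk (mem_centralizer_singleton_iff.1 k.2))
  have h1 : k = xk ^ n := Subtype.ext (by rw [Subgroup.coe_zpow]; exact hn.symm)
  rw [h1, map_zpow, κ_xk, one_zpow]

theorem ker_π0_le : π0.ker ≤ κ.ker := by
  intro k hk
  exact κ_of_mem ((QuotientGroup.eq_one_iff _).1 (MonoidHom.mem_ker.1 hk))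

/-- **the homomorphism to `A₅`** -/
noncomputable def ff : MM →* A5 :=
  (QuotientGroup.lift π0.ker κ ker_π0_le).comp
    ((QuotientGroup.quotientKerEquivOfSurjective π0 π0_surj).symm.toMonoidHom.comp (QuotientGroup.mk' OO))

theorem ff_OO {o : MM} (ho : o ∈ OO) : ff o = 1 := by
  have h1 : QuotientGroup.mk' OO o = 1 := (QuotientGroup.eq_one_iff o).2 ho
  change (QuotientGroup.lift π0.ker κ ker_π0_le)
    ((QuotientGroup.quotientKerEquivOfSurjective π0 π0_surj).symm (QuotientGroup.mk' OO o)) = 1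
  rw [h1, map_one, map_one]

theorem ff_KK (k : KK) : ff (k : MM) = κ k := by
  change (QuotientGroup.lift π0.ker κ ker_π0_le)
    ((QuotientGroup.quotientKerEquivOfSurjective π0 π0_surj).symm (π0 k)) = κ k
  have h1 : (QuotientGroup.quotientKerEquivOfSurjective π0 π0_surj).symm (π0 k) = QuotientGroup.mk k := by
    rw [MulEquiv.symm_apply_eq]
    rfl
  rw [h1]
  rfl

theorem ff_surj : Function.Surjective ff := by
  intro b
  obtain ⟨k, rfl⟩ := κ_surj b
  exact ⟨k, ff_KK k⟩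

/-- the kernel -/
theorem ff_ker {m : MM} (hm : ff m = 1) : m ∈ OO ∨ ∃ o ∈ OO, m = o * ss := by
  obtain ⟨o, ho, k, rfl⟩ := exists_mul m
  rw [map_mul, ff_OO ho, one_mul, ff_KK] at hm
  obtain ⟨i, h | h⟩ := ker_κ hm
  · left
    have h1 : (k : MM) = xx ^ i := Subtype.ext (by rw [Subgroup.coe_pow]; exact h)
    rw [h1]
    exact mul_mem ho (pow_mem (Z_le (mem_zpowers xx)) i)
  · right
    have h1 : (k : MM) = ss * xx ^ i := Subtype.ext (by rw [Subgroup.coe_mul, Subgroup.coe_pow]; exact h)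
    refine ⟨o * xx ^ i, mul_mem ho (pow_mem (Z_le (mem_zpowers xx)) i), ?_⟩
    have h2 : Commute ss (xx ^ i) := (show Commute ss xx from xx_comm ss).pow_right i
    rw [h1, h2.eq, mul_assoc]

theorem ff_ss : ff ss = 1 := by
  let sk : KK := ⟨ss, mem_centralizer_singleton_iff.2 rfl⟩
  have h1 : ff ((sk : KK) : MM) = κ sk := ff_KK sk
  change ff ss = κ sk at h1
  have hc : ∀ b : A5, κ sk * b = b * κ sk := by
    intro b
    obtain ⟨k, rfl⟩ := κ_surj b
    rw [← map_mul, ← map_mul]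
    congr 1
    exact Subtype.ext (mem_centralizer_singleton_iff.1 k.2).symm
  have h2 : κ sk ∈ center A5 := mem_center_iff.2 fun b => (hc b).symm
  rw [center_A5, mem_bot] at h2
  rw [h1, h2]

/-- **elements of order three of the kernel** -/
theorem mem_OO_of_ff {m : MM} (h3 : orderOf m = 3) (hm : ff m = 1) : m ∈ OO := by
  rcases ff_ker hm with h | ⟨o, ho, rfl⟩
  · exact h
  · exfalso
    apply ss_not_mem
    have h5 := mk_mul ho ss
    have h6 : QuotientGroup.mk' OO ss ^ 3 = 1 := by rw [← h5, ← map_pow, ← h3, pow_orderOf_eq_one, map_one]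
    have h7 : QuotientGroup.mk' OO ss ^ 2 = 1 := by rw [← map_pow, pow_two, ss_mul, map_one]
    have h8 : QuotientGroup.mk' OO ss = 1 := by
      calc QuotientGroup.mk' OO ss = QuotientGroup.mk' OO ss ^ 3 * (QuotientGroup.mk' OO ss ^ 2)⁻¹ := by group
        _ = 1 := by rw [h6, h7]; group
    exact (QuotientGroup.eq_one_iff _).1 h8

/-! ### two elements -/

/-- `(0 1 2)` -/
def p1 : Equiv.Perm (Fin 12) := cy [0, 1, 2]
/-- `(0 1 2)(3 4 5)(6 8 7)` -/
def p3 : Equiv.Perm (Fin 12) := cy [0, 1, 2] * cy [3, 4, 5] * cy [6, 8, 7]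
theorem p1_mem : p1 ∈ alternatingGroup (Fin 12) := by rw [mem_alternatingGroup]; decide +kernel
theorem p3_mem : p3 ∈ alternatingGroup (Fin 12) := by rw [mem_alternatingGroup]; decide +kernel
theorem p1_x3 : p1 * x3 = x3 * p1 := by decide +kernel
theorem p3_x3 : p3 * x3 = x3 * p3 := by decide +kernel
/-- the image of `p1` -/
noncomputable def t1 : MM := mk p1 p1_mem p1_x3
/-- the image of `p3` -/
noncomputable def t3 : MM := mk p3 p3_mem p3_x3

theorem t1_coe : (t1 : G) = Φ ⟨p1, p1_mem⟩ := rfl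
theorem t3_coe : (t3 : G) = Φ ⟨p3, p3_mem⟩ := rfl

theorem order_t1 : orderOf t1 = 3 := by
  rw [← Subgroup.orderOf_coe]
  exact orderOf_three p1_mem (by decide +kernel) (by decide +kernel)
theorem order_t3 : orderOf t3 = 3 := by
  rw [← Subgroup.orderOf_coe]
  exact orderOf_three p3_mem (by decide +kernel) (by decide +kernel)

theorem conj_t1 : ∃ g : G, g * (t1 : G) * g⁻¹ = X1 := by
  have hm : cy [0, 9] * cy [1, 10] * cy [2, 11] * cy [3, 4] ∈ alternatingGroup (Fin 12) := by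
    rw [mem_alternatingGroup]; decide +kernel
  exact ⟨_, conj_Φ hm p1_mem x1_mem (by decide +kernel)⟩

theorem conj_t3 : ∃ g : G, g * (t3 : G) * g⁻¹ = X3 := by
  have hm : cy [7, 8] * cy [9, 10] ∈ alternatingGroup (Fin 12) := by
    rw [mem_alternatingGroup]; decide +kernel
  exact ⟨_, conj_Φ hm p3_mem x3_mem (by decide +kernel)⟩

/-- the powers of `xx` -/
theorem zpow_xx (n : ℤ) : ∃ m < 3, xx ^ n = xx ^ m := by
  refine ⟨(n % 3).toNat, ?_, ?_⟩
  · have h1 := Int.emod_lt_of_pos n (show (0 : ℤ) < 3 by norm_num)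
    have h2 := Int.emod_nonneg n (show (3 : ℤ) ≠ 0 by norm_num)
    omega
  · rw [← zpow_natCast, Int.toNat_of_nonneg (Int.emod_nonneg n (by norm_num))]
    have h4 := zpow_mod_orderOf xx n
    rw [order_xx] at h4
    exact h4.symm

/-- permutations which do not commute modulo `x3` -/
theorem not_comm_mod {a b : Equiv.Perm (Fin 12)} (ha : a ∈ alternatingGroup (Fin 12)) (hax : a * x3 = x3 * a)
    (hb : b ∈ alternatingGroup (Fin 12)) (hbx : b * x3 = x3 * b)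
    (h : ∀ m < 3, a * b * a⁻¹ ≠ x3 ^ m * b) (n : ℤ) :
    mk a ha hax * mk b hb hbx * (mk a ha hax)⁻¹ ≠ xx ^ n * mk b hb hbx := by
  obtain ⟨m, hm, h1⟩ := zpow_xx n
  rw [h1]
  intro h2
  apply h m hm
  have h3 := congrArg Subtype.val h2
  have h4 : Φ ⟨a, ha⟩ * Φ ⟨b, hb⟩ * (Φ ⟨a, ha⟩)⁻¹ = (Φ ⟨x3, x3_mem⟩) ^ m * Φ ⟨b, hb⟩ := h3
  rw [← map_mul, ← map_inv, ← map_mul, ← map_pow, ← map_mul] at h4
  exact congrArg Subtype.val (Φ_inj h4)

theorem t1_gg (n : ℤ) : t1 * gg * t1⁻¹ ≠ xx ^ n * gg :=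
  not_comm_mod _ _ _ _ (by decide +kernel) n

theorem t3_gg (n : ℤ) : t3 * gg * t3⁻¹ ≠ xx ^ n * gg :=
  not_comm_mod _ _ _ _ (by decide +kernel) n

theorem t1_not_mem : t1 ∉ OO := by
  intro h
  obtain ⟨n, hn⟩ := comm_mod h gg_mem
  exact t1_gg n hn

theorem t3_not_mem : t3 ∉ OO := by
  intro h
  obtain ⟨n, hn⟩ := comm_mod h gg_mem
  exact t3_gg n hn

theorem ff_t1 : ff t1 ≠ 1 := fun h => t1_not_mem (mem_OO_of_ff order_t1 h)
theorem ff_t3 : ff t3 ≠ 1 := fun h => t3_not_mem (mem_OO_of_ff order_t3 h)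

/-- **an element of order three commuting with an involution has a conjugate in `C(X3)` outside the kernel** -/
theorem exists_out {x t : G} (hx : orderOf x = 3) (ht : orderOf t = 2) (hc : x * t = t * x) :
    ∃ (g : G) (hg : g * x * g⁻¹ ∈ MM), ff ⟨g * x * g⁻¹, hg⟩ ≠ 1 := by
  have hP : H749.PEl 3 x := ⟨1, by rw [pow_one, ← hx, pow_orderOf_eq_one]⟩
  have hx1 : x ≠ 1 := by
    rintro rfl
    rw [orderOf_one] at hx
    norm_num at hx
  have key : ∀ (y : G) (u : MM), (∃ g : G, g * (u : G) * g⁻¹ = y) → ff u ≠ 1 → (∃ c : G, c * x * c⁻¹ = y) →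
      ∃ (g : G) (hg : g * x * g⁻¹ ∈ MM), ff ⟨g * x * g⁻¹, hg⟩ ≠ 1 := by
    rintro y u ⟨g, hg⟩ hu ⟨c, hc⟩
    have h1 : (g⁻¹ * c) * x * (g⁻¹ * c)⁻¹ = u := by
      calc (g⁻¹ * c) * x * (g⁻¹ * c)⁻¹ = g⁻¹ * (c * x * c⁻¹) * g := by group
        _ = g⁻¹ * (g * (u : G) * g⁻¹) * g := by rw [hc, hg]
        _ = u := by group
    have h2 : (g⁻¹ * c) * x * (g⁻¹ * c)⁻¹ ∈ MM := by rw [h1]; exact u.2
    refine ⟨g⁻¹ * c, h2, ?_⟩
    have h3 : (⟨(g⁻¹ * c) * x * (g⁻¹ * c)⁻¹, h2⟩ : MM) = u := Subtype.ext h1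
    rw [h3]
    exact hu
  obtain ⟨c, hc | hc⟩ := conj_of_comm hP ht hc hx1
  · exact key X1 t1 conj_t1 ff_t1 ⟨c, hc⟩
  · exact key X3 t3 conj_t3 ff_t3 ⟨c, hc⟩

end Cfsg.Agent.H701.Wf.HN
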