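import Cfsg.Agent.H701.Wf.HNA
import Cfsg.Agent.H701.Wf.Gen

/-!
# S3826, the row `HN` at the prime three, II: `X1` is not 3-central (helper701, task 4036)

* `Q3` : the elements of `OO` of exponent three;
* `no_central` : an element of order three of `C(X3)` outside `⟨X3⟩` does not centralise a Sylow 3-subgroup of `C(X3)`;
* `card_X1` : `3 ^ 6` does not divide `|C(X1)|`.
-/

set_option autoImplicit false

namespace Cfsg.Agent.H701.Wf.HN

open Subgroup Cfsg Cfsg.Agent
open Cfsg.Agent.H478.HNThree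
open Cfsg.Agent.KFacts.HN (A5)
open Cfsg.Agent.CpAutHN
open Cfsg.Agent.CpAutHN.Alt
open Cfsg.Agent.CpAutHN.Tr
open Cfsg.Agent.CpAutHN.Pairs
open Cfsg.Agent.H569.HNThree (card_G finite_G MM ss order_ss S3X3 comm_core index_X3 mk mk_core sg sg_mem conj_Φ order_mk
  exists_sqrt)

attribute [local instance] Cfsg.Agent.H569.HNThree.finite_G

theorem xx3 : xx ^ 3 = 1 := by rw [← order_xx, pow_orderOf_eq_one]

/-- products of elements of exponent three -/
theorem cube_mul {a b : MM} (ha : a ∈ OO) (hb : b ∈ OO) (ha3 : a ^ 3 = 1) (hb3 : b ^ 3 = 1) : (a * b) ^ 3 = 1 := by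
  obtain ⟨n, hn⟩ := comm_mod ha hb
  set c : MM := (xx ^ n)⁻¹ with hc
  have hcm : ∀ m : MM, m * c = c * m := fun m => ((show Commute m xx from xx_comm m).zpow_right n).inv_right.eq
  have hz : ∀ x y : MM, x * (c * y) = c * (x * y) := fun x y => by rw [← mul_assoc, hcm, mul_assoc]
  have hba : b * a = c * (a * b) := by
    have h1 : a * b = xx ^ n * b * a := by rw [← hn]; group
    rw [h1, hc]
    group
  have hc3 : c * (c * c) = 1 := by
    have h1 : xx ^ (3 : ℤ) = 1 := by exact_mod_cast xx3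
    rw [hc, ← mul_inv_rev, ← mul_inv_rev, ← zpow_add, ← zpow_add, show n + n + n = 3 * n by ring, zpow_mul, h1, one_zpow,
      inv_one]
  have ha3' : a * (a * a) = 1 := by rw [← ha3, pow_succ, pow_two, mul_assoc]
  have hb3' : b * (b * b) = 1 := by rw [← hb3, pow_succ, pow_two, mul_assoc]
  calc (a * b) ^ 3 = (a * (b * a)) * ((b * a) * b) := by rw [pow_succ, pow_two]; group
    _ = c * (a * (a * b)) * (c * (a * b * b)) := by rw [hba, hz, mul_assoc c (a * b) b]
    _ = c * (c * (a * (a * (b * a)) * (b * b))) := by rw [mul_assoc c, hz]; group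
    _ = c * (c * (c * ((a * (a * a)) * (b * (b * b))))) := by
      rw [hba, hz a (a * b), hz a (a * (a * b)), mul_assoc c (a * (a * (a * b)))]
      simp only [mul_assoc]
    _ = 1 := by rw [ha3', hb3', mul_one, mul_one, hc3]

/-- the elements of `OO` of exponent three -/
def Q3 : Subgroup MM where
  carrier := {o | o ∈ OO ∧ o ^ 3 = 1}
  one_mem' := ⟨one_mem _, one_pow _⟩
  mul_mem' := fun ha hb => ⟨mul_mem ha.1 hb.1, cube_mul ha.1 hb.1 ha.2 hb.2⟩
  inv_mem' := fun ha => ⟨inv_mem ha.1, by rw [inv_pow, ha.2, inv_one]⟩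

theorem mem_Q3 {o : MM} : o ∈ Q3 ↔ o ∈ OO ∧ o ^ 3 = 1 := Iff.rfl

instance Q3_normal : Q3.Normal := by
  refine ⟨fun n hn g => ?_⟩
  refine ⟨OO_normal.conj_mem n hn.1 g, ?_⟩
  rw [conj_pow, hn.2, mul_one, mul_inv_cancel]

theorem Q3_pgroup : IsPGroup 3 Q3 := fun x => ⟨1, Subtype.ext (by rw [Subgroup.coe_pow, pow_one]; exact x.2.2)⟩

theorem Q3_le (P : Sylow 3 MM) : Q3 ≤ (P : Subgroup MM) :=
  (Lib.Cores.le_pCore Q3_normal Q3_pgroup).trans (Lib.Cores.pCore_le_sylow P)

theorem xx_mem : xx ∈ Q3 := ⟨Z_le (mem_zpowers xx), xx3⟩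
theorem uu_mem' : uu ∈ Q3 := by
  refine ⟨uu_mem, Subtype.ext ?_⟩
  rw [Subgroup.coe_pow]
  change (Φ ⟨y3, y3_mem⟩) ^ 3 = 1
  rw [← map_pow, ← map_one Φ]
  exact congrArg Φ (Subtype.ext (by change y3 ^ 3 = 1; decide +kernel))
theorem gg_mem' : gg ∈ Q3 := by
  refine ⟨gg_mem, Subtype.ext ?_⟩
  rw [Subgroup.coe_pow]
  change (Φ ⟨sg, sg_mem⟩) ^ 3 = 1
  rw [← map_pow, ← map_one Φ]
  exact congrArg Φ (Subtype.ext (by change sg ^ 3 = 1; decide +kernel))

theorem comm_of_Φ {a b : Equiv.Perm (Fin 12)} (ha : a ∈ alternatingGroup (Fin 12)) (hb : b ∈ alternatingGroup (Fin 12))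
    (h : Φ ⟨a, ha⟩ * Φ ⟨b, hb⟩ = Φ ⟨b, hb⟩ * Φ ⟨a, ha⟩) : a * b = b * a := by
  rw [← map_mul, ← map_mul] at h
  exact congrArg Subtype.val (Φ_inj h)

theorem uu_gg : uu * gg ≠ gg * uu := by
  intro h
  have h1 : Φ ⟨y3, y3_mem⟩ * Φ ⟨sg, sg_mem⟩ = Φ ⟨sg, sg_mem⟩ * Φ ⟨y3, y3_mem⟩ := congrArg Subtype.val h
  have h2 := comm_of_Φ y3_mem sg_mem h1
  revert h2
  decide +kernel

/-- subgroups of the 3-groups -/
theorem three_mul_le {M : Type*} [Group M] [Finite M] {H K : Subgroup M} (hK : IsPGroup 3 K) (h : H < K) :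
    3 * Nat.card H ≤ Nat.card K := by
  have : Fact (Nat.Prime 3) := ⟨Nat.prime_three⟩
  obtain ⟨a, ha⟩ := IsPGroup.iff_card.1 (hK.to_le h.le)
  obtain ⟨b, hb⟩ := IsPGroup.iff_card.1 hK
  have hlt : Nat.card H < Nat.card K := by
    refine lt_of_le_of_ne (Nat.card_le_card_of_injective _ (inclusion_injective h.le)) fun h1 => ?_
    exact h.ne (Subgroup.eq_of_le_of_card_ge h.le h1.ge)
  rw [ha, hb] at hlt ⊢
  have h1 := (Nat.pow_lt_pow_iff_right (by norm_num : 1 < 3)).1 hlt
  rw [← pow_succ']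
  exact Nat.pow_le_pow_right (by norm_num) h1

/-- the elements acting trivially on `Q3 / ⟨xx⟩` -/
noncomputable def WW : Subgroup MM := (centralizer ((Q3.map q : Subgroup (MM ⧸ zpowers xx)) : Set (MM ⧸ zpowers xx))).comap q

instance WW_normal : WW.Normal := by
  have h1 : (Q3.map q).Normal := Q3_normal.map q (QuotientGroup.mk'_surjective _)
  have h2 : (centralizer ((Q3.map q : Subgroup (MM ⧸ zpowers xx)) : Set (MM ⧸ zpowers xx))).Normal := inferInstance
  exact h2.comap q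

theorem mem_WW {m : MM} : m ∈ WW ↔ ∀ x ∈ Q3, q x * q m = q m * q x := by
  rw [WW, mem_comap, mem_centralizer_iff]
  constructor
  · intro h x hx
    exact h _ ⟨x, hx, rfl⟩
  · rintro h _ ⟨x, hx, rfl⟩
    exact h x hx

theorem q_xx (n : ℤ) : q (xx ^ n) = 1 := (QuotientGroup.eq_one_iff _).2 (zpow_mem (mem_zpowers xx) n)

theorem q_comm {a b : MM} (ha : a ∈ OO) (hb : b ∈ OO) : q a * q b = q b * q a := by
  obtain ⟨n, hn⟩ := comm_mod ha hb
  have h1 : a * b = xx ^ n * b * a := by rw [← hn]; group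
  rw [← map_mul, h1, map_mul, map_mul, q_xx, one_mul]

theorem OO_le_WW : OO ≤ WW := fun _ ho => mem_WW.2 fun _ hx => q_comm hx.1 ho

theorem t1_not_WW : t1 ∉ WW := by
  intro h
  have h1 := mem_WW.1 h gg gg_mem'
  rw [← map_mul, ← map_mul] at h1
  have h2 : (gg * t1)⁻¹ * (t1 * gg) ∈ zpowers xx := QuotientGroup.eq.1 h1
  obtain ⟨n, hn⟩ := mem_zpowers_iff.1 h2
  refine t1_gg n ?_
  have h3 : Commute (gg * t1) (xx ^ n) := (show Commute (gg * t1) xx from xx_comm _).zpow_right n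
  have h4 : t1 * gg = gg * t1 * xx ^ n := by rw [hn]; group
  rw [h4, h3.eq]
  group

theorem ss_pow (k : ℤ) : ∃ j < 2, ss ^ k = ss ^ j := by
  refine ⟨(k % 2).toNat, ?_, ?_⟩
  · omega
  · rw [← zpow_natCast, Int.toNat_of_nonneg (Int.emod_nonneg k (by norm_num))]
    have h4 := zpow_mod_orderOf ss k
    rw [order_ss] at h4
    exact h4.symm

/-- `WW` is in the kernel -/
theorem ff_WW {w : MM} (hw : w ∈ WW) : ff w = 1 := by
  have hs := simple_A5
  have hn : (WW.map ff).Normal := WW_normal.map ff ff_surj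
  rcases hn.eq_bot_or_eq_top with h | h
  · have h1 : ff w ∈ WW.map ff := ⟨w, hw, rfl⟩
    rw [h, mem_bot] at h1
    exact h1
  · exfalso
    have h1 : ff t1 ∈ WW.map ff := by rw [h]; exact mem_top _
    obtain ⟨v, hv, hvt⟩ := h1
    have h2 : ff (t1 * v⁻¹) = 1 := by rw [map_mul, map_inv, hvt, mul_inv_cancel]
    rcases ff_ker h2 with h3 | ⟨o, ho, h3⟩
    · apply t1_not_WW
      have h4 : t1 = (t1 * v⁻¹) * v := by group
      rw [h4]
      exact mul_mem (OO_le_WW h3) hv
    · -- `t1 = o * ss * v`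
      apply t1_not_WW
      have h4 : t1 = o * ss * v := by rw [← h3]; group
      have h5 : QuotientGroup.mk' WW t1 = QuotientGroup.mk' WW ss := by
        rw [h4, map_mul, map_mul, show QuotientGroup.mk' WW o = 1 from (QuotientGroup.eq_one_iff o).2 (OO_le_WW ho),
          show QuotientGroup.mk' WW v = 1 from (QuotientGroup.eq_one_iff v).2 hv, one_mul, mul_one]
      have h6 : QuotientGroup.mk' WW t1 ^ 3 = 1 := by rw [← map_pow, ← order_t1, pow_orderOf_eq_one, map_one]
      have h7 : QuotientGroup.mk' WW t1 ^ 2 = 1 := by rw [h5, ← map_pow, pow_two, ss_mul, map_one]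
      have h8 : QuotientGroup.mk' WW t1 = 1 := by
        calc QuotientGroup.mk' WW t1 = QuotientGroup.mk' WW t1 ^ 3 * (QuotientGroup.mk' WW t1 ^ 2)⁻¹ := by group
          _ = 1 := by rw [h6, h7]; group
      exact (QuotientGroup.eq_one_iff _).1 h8

/-- subgroups of `A₅` of index at most four -/
theorem top_of_index {H : Subgroup A5} (h : H.index ≤ 4) : H = ⊤ := by
  have hs := simple_A5
  have hc : Nat.card A5 = 60 := by
    rw [Nat.card_eq_fintype_card]
    decide +kernel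
  rcases (H.normalCore_normal).eq_bot_or_eq_top with h1 | h1
  · exfalso
    have h2 : (MulAction.toPermHom A5 (A5 ⧸ H)).ker = ⊥ := by rw [← Subgroup.normalCore_eq_ker, h1]
    have h3 := Nat.card_le_card_of_injective _ ((MonoidHom.ker_eq_bot_iff _).1 h2)
    rw [Nat.card_perm, hc] at h3
    have h4 : Nat.factorial (Nat.card (A5 ⧸ H)) ≤ Nat.factorial 4 := Nat.factorial_le h
    have h5 : Nat.factorial 4 = 24 := rfl
    omega
  · rw [eq_top_iff, ← h1]
    exact H.normalCore_le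

/-- the orders of the 3-subgroups -/
theorem card_three {P : Subgroup MM} (hP : IsPGroup 3 P) : Nat.card P ≤ 729 := by
  have : Fact (Nat.Prime 3) := ⟨Nat.prime_three⟩
  obtain ⟨n, hn⟩ := IsPGroup.iff_card.1 hP
  have h1 : Nat.card P ∣ 273030912000000 := by
    rw [← card_G]
    exact (card_subgroup_dvd_card P).trans (card_subgroup_dvd_card MM)
  rw [hn] at h1 ⊢
  have h2 : n ≤ 6 := by
    by_contra hcon
    have h3 : 3 ^ 7 ∣ 273030912000000 := (pow_dvd_pow 3 (by omega : 7 ≤ n)).trans h1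
    revert h3
    norm_num
  calc 3 ^ n ≤ 3 ^ 6 := Nat.pow_le_pow_right (by norm_num) h2
    _ = 729 := by norm_num

/-- **no element of order three outside of `⟨X3⟩` centralises a Sylow 3-subgroup of `C(X3)`** -/
theorem no_central {z : MM} (hz3 : orderOf z = 3) (hzX : z ∉ zpowers xx) (P : Sylow 3 MM)
    (hP : ∀ a ∈ (P : Subgroup MM), a * z = z * a) : False := by
  have : Fact (Nat.Prime 3) := ⟨Nat.prime_three⟩
  have hz3' : z ^ 3 = 1 := by rw [← hz3, pow_orderOf_eq_one]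
  have hQz : ∀ x ∈ Q3, x * z = z * x := fun x hx => hP x (Q3_le P hx)
  have hzO : z ∈ OO := by
    refine mem_OO_of_ff hz3 (ff_WW (mem_WW.2 fun x hx => ?_))
    rw [← map_mul, ← map_mul, hQz x hx]
  have hzQ : z ∈ Q3 := ⟨hzO, hz3'⟩
  -- the centre of `Q3`
  let R : Subgroup MM := Q3 ⊓ centralizer (Q3 : Set MM)
  have hRn : R.Normal := inferInstance
  have hzR : z ∈ R := ⟨hzQ, mem_centralizer_iff.2 hQz⟩
  have hxR : zpowers xx ≤ R := by
    rw [zpowers_le]
    exact ⟨xx_mem, mem_centralizer_iff.2 fun x _ => xx_comm x⟩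
  have hQP : Q3 < (P : Subgroup MM) := by
    refine lt_of_le_of_ne (Q3_le P) fun h1 => ?_
    -- `t1` has a conjugate in `P`
    have hp : IsPGroup 3 ↥(zpowers t1) := IsPGroup.of_card (n := 1) (by rw [Nat.card_zpowers, order_t1, pow_one])
    obtain ⟨P', hP'⟩ := hp.exists_le_sylow
    obtain ⟨g, hg⟩ := MulAction.exists_smul_eq MM P' P
    have h2 : g * t1 * g⁻¹ ∈ (P : Subgroup MM) := by
      rw [← hg, Sylow.coe_subgroup_smul]
      exact smul_mem_pointwise_smul t1 (MulAut.conj g) _ (hP' (mem_zpowers t1))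
    rw [← h1] at h2
    have h3 := Q3_normal.conj_mem _ h2 g⁻¹
    have h4 : g⁻¹ * (g * t1 * g⁻¹) * g⁻¹⁻¹ = t1 := by group
    rw [h4] at h3
    exact t1_not_mem h3.1
  have c1 : 3 * Nat.card Q3 ≤ 729 := (three_mul_le P.2 hQP).trans (card_three P.2)
  let E : Subgroup MM := Q3 ⊓ centralizer ({uu} : Set MM)
  have hE : E < Q3 := by
    refine lt_of_le_of_ne inf_le_left fun h1 => ?_
    have h2 : gg ∈ E := by rw [h1]; exact gg_mem'
    exact uu_gg (mem_centralizer_singleton_iff.1 h2.2).symm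
  have c2 := three_mul_le Q3_pgroup hE
  have hRE : R < E := by
    refine lt_of_le_of_ne ?_ fun h1 => ?_
    · refine le_inf inf_le_left ?_
      intro r hr
      exact mem_centralizer_singleton_iff.2 ((mem_centralizer_iff.1 hr.2) uu uu_mem').symm
    · have h2 : uu ∈ R := by rw [h1]; exact ⟨uu_mem', mem_centralizer_singleton_iff.2 rfl⟩
      exact uu_gg ((mem_centralizer_iff.1 h2.2) gg gg_mem').symm
  have c3 := three_mul_le (Q3_pgroup.to_le hE.le) hRE
  have c4 : Nat.card R ≤ 27 := by omega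
  -- modulo `xx`
  have c5 : Nat.card (R.map q) ≤ 9 := by
    have h1 := relIndex_ker (K := R) q
    rw [QuotientGroup.ker_mk'] at h1
    have h2 := relIndex_mul_relIndex ⊥ (zpowers xx) R bot_le hxR
    rw [relIndex_bot_left, relIndex_bot_left, Nat.card_zpowers, order_xx, h1] at h2
    omega
  set zb : MM ⧸ zpowers xx := q z with hzb
  have hzb1 : zb ≠ 1 := fun h1 => hzX ((QuotientGroup.eq_one_iff z).1 h1)
  have hzb3 : zb ^ 3 = 1 := by rw [hzb, ← map_pow, hz3', map_one]
  have hRbn : (R.map q).Normal := hRn.map q (QuotientGroup.mk'_surjective _)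
  have hzbR : zb ∈ R.map q := ⟨z, hzR, rfl⟩
  -- the index of the centraliser
  have c6 : (centralizer ({zb} : Set (MM ⧸ zpowers xx))).index ≤ 8 := by
    let F : (MM ⧸ zpowers xx) ⧸ centralizer ({zb} : Set (MM ⧸ zpowers xx)) → R.map q := fun a =>
      ⟨a.out * zb * a.out⁻¹, hRbn.conj_mem _ hzbR _⟩
    have hF : Function.Injective F := fun a b hab =>
      Cfsg.Agent.H701.Wf.inj_conj zb (congrArg Subtype.val hab)
    have hns : ¬ Function.Surjective F := by
      intro h1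
      obtain ⟨a, ha⟩ := h1 1
      have h2 : a.out * zb * a.out⁻¹ = 1 := congrArg Subtype.val ha
      exact hzb1 (conj_eq_one_iff.1 h2)
    have h1 : Nat.card ((MM ⧸ zpowers xx) ⧸ centralizer ({zb} : Set (MM ⧸ zpowers xx))) < Nat.card (R.map q) := by
      have i1 := Fintype.ofFinite ((MM ⧸ zpowers xx) ⧸ centralizer ({zb} : Set (MM ⧸ zpowers xx)))
      have i2 := Fintype.ofFinite (R.map q)
      rw [Nat.card_eq_fintype_card, Nat.card_eq_fintype_card]
      exact Fintype.card_lt_of_injective_not_surjective F hF hns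
    have h2 : (centralizer ({zb} : Set (MM ⧸ zpowers xx))).index =
      Nat.card ((MM ⧸ zpowers xx) ⧸ centralizer ({zb} : Set (MM ⧸ zpowers xx))) := rfl
    omega
  -- the involution
  have hsz : q ss * zb * (q ss)⁻¹ = zb⁻¹ := by
    have h1 := φs_fpf.coe_eq_inv_of_involutive φs_inv
    have h2 := congrFun h1 ⟨zb, ⟨z, hzO, rfl⟩⟩
    have h3 := congrArg Subtype.val h2
    rw [φs_coe] at h3
    exact h3
  have hne : zb⁻¹ ≠ zb := by
    intro h1
    apply hzb1
    have h2 : zb ^ 2 = 1 := by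
      rw [pow_two]
      nth_rw 1 [← h1]
      exact inv_mul_cancel zb
    calc zb = zb ^ 3 * (zb ^ 2)⁻¹ := by group
      _ = 1 := by rw [hzb3, h2]; group
  let Nb : Subgroup (MM ⧸ zpowers xx) := normalizer ((zpowers zb : Subgroup _) : Set (MM ⧸ zpowers xx))
  have hCN : centralizer ({zb} : Set (MM ⧸ zpowers xx)) ≤ Nb := by
    intro g hg
    rw [mem_centralizer_singleton_iff] at hg
    have h1 : ∀ n : ℤ, g * zb ^ n * g⁻¹ = zb ^ n := fun n => by
      rw [mul_inv_eq_iff_eq_mul]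
      exact ((show Commute g zb from hg).zpow_right n).eq
    refine Transfer.FusionBasic.mem_normalizer_of_conj_mem fun y hy => ?_
    obtain ⟨n, rfl⟩ := mem_zpowers_iff.1 hy
    rw [h1]
    exact zpow_mem (mem_zpowers zb) n
  have hsN : q ss ∈ Nb := by
    refine Transfer.FusionBasic.mem_normalizer_of_conj_mem fun y hy => ?_
    obtain ⟨n, rfl⟩ := mem_zpowers_iff.1 hy
    rw [← conj_zpow, hsz]
    exact zpow_mem (inv_mem (mem_zpowers zb)) n
  have hlt : centralizer ({zb} : Set (MM ⧸ zpowers xx)) < Nb := by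
    refine lt_of_le_of_ne hCN fun h1 => ?_
    rw [← h1, mem_centralizer_singleton_iff] at hsN
    apply hne
    rw [← hsz, hsN, mul_inv_cancel_right]
  have c7 : Nb.index ≤ 4 := by
    have h1 := relIndex_mul_index hCN
    have h2 : (centralizer ({zb} : Set (MM ⧸ zpowers xx))).relIndex Nb ≠ 1 := fun h =>
      hlt.not_ge (relIndex_eq_one.1 h)
    have h3 : (centralizer ({zb} : Set (MM ⧸ zpowers xx))).relIndex Nb ≠ 0 := by
      intro h4
      rw [h4, zero_mul] at h1
      exact index_ne_zero_of_finite h1.symm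
    have h4 : 2 ≤ (centralizer ({zb} : Set (MM ⧸ zpowers xx))).relIndex Nb := by omega
    have h5 : 2 * Nb.index ≤ 8 := by
      calc 2 * Nb.index ≤ (centralizer ({zb} : Set (MM ⧸ zpowers xx))).relIndex Nb * Nb.index := Nat.mul_le_mul_right _ h4
        _ ≤ 8 := by rw [h1]; exact c6
    omega
  let N : Subgroup MM := Nb.comap q
  have hNi : N.index = Nb.index := index_comap_of_surjective _ (QuotientGroup.mk'_surjective _)
  have hNf : N.map ff = ⊤ := by
    apply top_of_index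
    have h1 := N.index_map_dvd ff_surj
    exact (Nat.le_of_dvd (Nat.pos_of_ne_zero index_ne_zero_of_finite) h1).trans (by rw [hNi]; exact c7)
  have hOC : ∀ o ∈ OO, o ∈ N := fun o ho =>
    hCN (mem_centralizer_singleton_iff.2 (q_comm ho hzO))
  have hNtop : ∀ m : MM, m ∈ N := by
    intro m
    have h1 : ff m ∈ N.map ff := by rw [hNf]; exact mem_top _
    obtain ⟨v, hv, hvm⟩ := h1
    have h2 : ff (m * v⁻¹) = 1 := by rw [map_mul, map_inv, hvm, mul_inv_cancel]
    have h4 : m = (m * v⁻¹) * v := by group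
    rcases ff_ker h2 with h3 | ⟨o, ho, h3⟩
    · rw [h4]
      exact mul_mem (hOC _ h3) hv
    · rw [h4, h3]
      exact mul_mem (mul_mem (hOC _ ho) hsN) hv
  -- a square root of the involution
  obtain ⟨g, hg⟩ := exists_sqrt
  have h1 : q g * zb * (q g)⁻¹ ∈ zpowers zb := (mem_normalizer_iff.1 (hNtop g) zb).1 (mem_zpowers zb)
  have h2 : q g * zb * (q g)⁻¹ = zb ∨ q g * zb * (q g)⁻¹ = zb⁻¹ := by
    obtain ⟨n, hn⟩ := mem_zpowers_iff.1 h1
    have h3 : zb ^ n = zb ^ (n % 3) := by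
      have h5 : zb ^ (3 : ℤ) = 1 := by exact_mod_cast hzb3
      conv_lhs => rw [← Int.emod_add_mul_ediv n 3]
      rw [zpow_add, zpow_mul, h5, one_zpow, mul_one]
    rw [h3] at hn
    have hr : n % 3 = 0 ∨ n % 3 = 1 ∨ n % 3 = 2 := by omega
    rcases hr with hr | hr | hr
    · exfalso
      rw [hr, zpow_zero] at hn
      exact hzb1 (conj_eq_one_iff.1 hn.symm)
    · left
      rw [← hn, hr, zpow_one]
    · right
      rw [← hn, hr, eq_inv_iff_mul_eq_one, ← zpow_add_one]
      exact_mod_cast hzb3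
  have h3 : q ss * zb * (q ss)⁻¹ = zb := by
    have h4 : q ss = q g * q g := by rw [← map_mul, hg]
    have h5 : q ss * zb * (q ss)⁻¹ = q g * (q g * zb * (q g)⁻¹) * (q g)⁻¹ := by rw [h4]; group
    rcases h2 with h6 | h6
    · rw [h5, h6, h6]
    · have h7 : q g * zb⁻¹ * (q g)⁻¹ = zb := by
        have : q g * zb⁻¹ * (q g)⁻¹ = (q g * zb * (q g)⁻¹)⁻¹ := by group
        rw [this, h6, inv_inv]
      rw [h5, h6, h7]
  exact hne (hsz.symm.trans h3)

end Cfsg.Agent.H701.Wf.HN
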