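import Cfsg.Agent.H701.Wf.Gen
import Cfsg.Agent.H19.Odd.HeEl
import Cfsg.Agent.S2075

/-!
# S3826, the row `He` at the prime three (helper701, task 4036)

All centralisers of elements of order three have order at most `7560`, and `7560² · 27 < |He|`: counting.
-/

set_option autoImplicit false

namespace Cfsg.Agent.H701.Wf

universe u v w

open Subgroup Cfsg Cfsg.Agent.H533.Wf

section

variable {G : Type u} [Group G] [Finite G] {S : Subgroup G} {C D : Set G}

/-- the counting argument with a bound for the centralisers -/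
theorem false_of_bound {p : ℕ} [Fact p.Prime] (h : Cfg p S C D) (k b n : ℕ) (hn : Nat.card G = n)
    (hk : ¬ p ^ (k + 1) ∣ n)
    (hb : ∀ x : G, orderOf x = p → Nat.card (centralizer ({x} : Set G)) ≤ b) (hlt : p ^ k * (b * b) < n) : False := by
  obtain ⟨c, hc⟩ := h.neC
  obtain ⟨d, hd⟩ := h.neD
  obtain ⟨P⟩ : Nonempty (Sylow p G) := inferInstance
  have h1 := card_le h.toHyp P hc hd
  obtain ⟨m, hm⟩ := IsPGroup.iff_card.1 P.2
  have hmk : m ≤ k := by
    by_contra hcon
    apply hk
    rw [← hn]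
    refine dvd_trans (pow_dvd_pow p (by omega : k + 1 ≤ m)) ?_
    rw [← hm]
    exact card_subgroup_dvd_card _
  have hP : Nat.card P ≤ p ^ k := by
    change Nat.card (P : Subgroup G) ≤ _
    rw [hm]
    exact Nat.pow_le_pow_right (Fact.out : p.Prime).pos hmk
  have h2 := Nat.mul_le_mul hP (Nat.mul_le_mul (hb c (h.ordC c hc)) (hb d (h.ordD d hd)))
  omega

/-- **the row `He`** -/
theorem wf_he {K : Type v} [Group K] (h : Cfsg.Spor.IsoHe K) : WfRow.{u, v} 3 K := by
  obtain ⟨e⟩ := h
  have hcard : Nat.card Cfsg.Spor.He = 4030387200 := Cfsg.Agent.S1695.result.2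
  have hfin : Finite Cfsg.Spor.He := Nat.finite_of_card_ne_zero (by rw [hcard]; norm_num)
  refine of_out e (by rw [Cfsg.Agent.S2075.result]) ?_
  intro G _ _ S C D hcfg hs hG
  obtain ⟨f⟩ := hG
  have : Fact (Nat.Prime 3) := ⟨Nat.prime_three⟩
  let g : G ≃* Cfsg.Spor.He := f.trans e
  refine false_of_bound hcfg 3 7560 4030387200 ((Nat.card_congr g.toEquiv).trans hcard) (by norm_num) (fun x hx => ?_)
    (by norm_num)
  rw [card_centralizer_congr g x]
  have h1 := Cfsg.Agent.H19.Odd.HeEl.three (b := g x) (by rw [MulEquiv.orderOf_eq, hx])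
  omega

end

end Cfsg.Agent.H701.Wf
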