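import Cfsg.Agent.H701.Wf.Gen
import Cfsg.Agent.TypeM.FactsMcL
import Cfsg.Agent.McLType.ThreeElts
import Cfsg.Agent.S2073
import Cfsg.Agent.TypeM.FactsLy
import Cfsg.Agent.S2076
import Cfsg.Agent.H582.Ly.Three

/-!
# S3826, the rows `McL` and `Ly` at the prime three (helper701, task 4036)

One class of involutions `t`, every element of order three commutes with an involution, `C(t) / ⟨t⟩` is alternating.
-/

set_option autoImplicit false

namespace Cfsg.Agent.H701.Wf

universe u v w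

open Subgroup Cfsg Cfsg.Agent.H533.Wf Cfsg.Agent.TypeM.Two

section

variable {G : Type u} [Group G] [Finite G] {S : Subgroup G} {C D : Set G}

theorem alt_not_comm {n : ℕ} (hn : 4 ≤ n) : ¬ ∀ a b : alternatingGroup (Fin n), a * b = b * a := by
  intro h
  obtain ⟨m, rfl⟩ : ∃ m, n = m + 4 := ⟨n - 4, by omega⟩
  let e : Fin 4 → Fin (m + 4) := fun i => ⟨i.1, by omega⟩
  have he : ∀ i j, i ≠ j → e i ≠ e j := by
    intro i j hij h1
    apply hij
    exact Fin.ext (congrArg (fun t : Fin (m + 4) => t.1) h1)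
  have h2 := h ⟨Equiv.swap (e 0) (e 1) * Equiv.swap (e 1) (e 2), by
      rw [Equiv.Perm.mem_alternatingGroup, map_mul, Equiv.Perm.sign_swap (he _ _ (by decide)),
        Equiv.Perm.sign_swap (he _ _ (by decide))]; rfl⟩
    ⟨Equiv.swap (e 0) (e 1) * Equiv.swap (e 1) (e 3), by
      rw [Equiv.Perm.mem_alternatingGroup, map_mul, Equiv.Perm.sign_swap (he _ _ (by decide)),
        Equiv.Perm.sign_swap (he _ _ (by decide))]; rfl⟩
  have h3 := congrArg (fun s : alternatingGroup (Fin (m + 4)) => (s : Equiv.Perm (Fin (m + 4))) (e 2)) h2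
  have h4 : (Equiv.swap (e 0) (e 1) * Equiv.swap (e 1) (e 2) * (Equiv.swap (e 0) (e 1) * Equiv.swap (e 1) (e 3)) :
      Equiv.Perm (Fin (m + 4))) (e 2) = (Equiv.swap (e 0) (e 1) * Equiv.swap (e 1) (e 3) *
      (Equiv.swap (e 0) (e 1) * Equiv.swap (e 1) (e 2)) : Equiv.Perm (Fin (m + 4))) (e 2) := h3
  simp only [Equiv.Perm.mul_apply] at h4
  rw [Equiv.swap_apply_of_ne_of_ne (he 2 1 (by decide)) (he 2 3 (by decide)),
    Equiv.swap_apply_of_ne_of_ne (he 2 0 (by decide)) (he 2 1 (by decide)), Equiv.swap_apply_right,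
    Equiv.swap_apply_right, Equiv.swap_apply_of_ne_of_ne (he 0 1 (by decide)) (he 0 3 (by decide)),
    Equiv.swap_apply_left] at h4
  exact he 0 1 (by decide) h4

/-- the covers of the alternating groups -/
theorem false_of_mt {n : ℕ} (hn : 5 ≤ n) (L : MT n G) (h : Cfg 3 S C D) [IsSimpleGroup G]
    (hinv : ∀ x : G, orderOf x = 3 → ∃ s : G, orderOf s = 2 ∧ s * x = x * s) : False := by
  have : Fact (Nat.Prime 3) := ⟨Nat.prime_three⟩
  let f : centralizer ({L.t} : Set G) →* alternatingGroup (Fin n) :=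
    L.K.π.codRestrict (alternatingGroup (Fin n)) L.K.mem_alternating
  have hf : Function.Surjective f := by
    rintro ⟨a, ha⟩
    rw [← L.K.range_eq] at ha
    obtain ⟨c, hc⟩ := ha
    exact ⟨c, Subtype.ext hc⟩
  have hne : centralizer ({L.t} : Set G) ≠ ⊤ := by
    intro h1
    have h2 : L.t ∈ center G := mem_center_iff.2 fun g =>
      mem_centralizer_singleton_iff.1 (show g ∈ centralizer ({L.t} : Set G) by rw [h1]; exact mem_top g)
    rcases (inferInstance : (center G).Normal).eq_bot_or_eq_top with h3 | h3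
    · rw [h3, mem_bot] at h2
      exact L.t_ne h2
    · apply alt_not_comm (n := n) (by omega)
      intro a b
      obtain ⟨x, rfl⟩ := hf a
      obtain ⟨y, rfl⟩ := hf b
      rw [← map_mul, ← map_mul]
      congr 1
      apply Subtype.ext
      have h4 : (y : G) ∈ center G := by rw [h3]; exact mem_top _
      exact mem_center_iff.1 h4 x
  refine false_of_invol h hne f hf (alternatingGroup.isSimpleGroup (by simpa using hn)) (alt_not_comm (by omega)) ?_
    (fun s hs => ?_) hinv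
  · intro x hx hfx
    have h1 : L.K.π x = 1 := congrArg Subtype.val hfx
    rcases (L.K.ker x).1 h1 with h2 | h2
    · rw [h2, orderOf_one] at hx
      norm_num at hx
    · rw [h2, L.K.orderOf_z] at hx
      norm_num at hx
  · obtain ⟨h1, h2⟩ := MT.sq_of_orderOf hs
    obtain ⟨g, hg⟩ := L.one s h1 h2
    refine ⟨g⁻¹, ?_⟩
    rw [← hg]
    group

/-- **the row `McL`** -/
theorem wf_mcl {K : Type v} [Group K] (h : Cfsg.Spor.IsoMcL K) : WfRow.{u, v} 3 K := by
  obtain ⟨e⟩ := h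
  have hfin := (Cfsg.Agent.TypeM.FactsMcL.facts (M := Cfsg.Spor.McL) ⟨MulEquiv.refl _⟩).1
  refine of_out e (by rw [Cfsg.Agent.S2073.result]) ?_
  intro G _ _ S C D hcfg hs hG
  obtain ⟨f⟩ := hG
  have hG : Cfsg.Spor.IsoMcL G := ⟨f.trans e⟩
  obtain ⟨-, -, -, ⟨L⟩⟩ := Cfsg.Agent.TypeM.FactsMcL.facts hG
  exact false_of_mt (n := 8) (by norm_num) L hcfg fun x hx =>
    Cfsg.Agent.McLType.ThreeElts.exists_commuting_involution_of_iso hG x hx

/-- **the row `Ly`** -/
theorem wf_ly {K : Type v} [Group K] (h : Cfsg.Spor.IsoLy K) : WfRow.{u, v} 3 K := by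
  obtain ⟨e⟩ := h
  have hfin := (Cfsg.Agent.TypeM.FactsLy.facts (M := Cfsg.Spor.Ly) ⟨MulEquiv.refl _⟩).1
  refine of_out e (by rw [Cfsg.Agent.S2076.result]; norm_num) ?_
  intro G _ _ S C D hcfg hs hG
  obtain ⟨f⟩ := hG
  have hG : Cfsg.Spor.IsoLy G := ⟨f.trans e⟩
  obtain ⟨-, -, hcard, ⟨L⟩⟩ := Cfsg.Agent.TypeM.FactsLy.facts hG
  obtain ⟨x₀, h₀⟩ := Cfsg.Agent.H582.Ly.exists_tdata hG
  exact false_of_mt (n := 11) (by norm_num) L hcfg fun x hx => Cfsg.Agent.H582.Ly.fact_a hcard h₀ hx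

end

end Cfsg.Agent.H701.Wf
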