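import Cfsg.Agent.H701.Wf.Gen
import Cfsg.Agent.H112.Rad3.Suz
import Cfsg.Agent.S2074

/-!
# S3826, the row `Suz` at the prime three (helper701, task 4036)

`C(y0) = 3.U₄(3)` has index prime to `3`.
-/

set_option autoImplicit false

namespace Cfsg.Agent.H701.Wf

universe u v w

open Subgroup Cfsg Cfsg.Agent.H533.Wf Cfsg.Agent

/-- **the row `Suz`** -/
theorem wf_suz {K : Type v} [Group K] (h : Cfsg.Spor.IsoSuz K) : WfRow.{u, v} 3 K := by
  obtain ⟨e⟩ := h
  have hfin : Finite Spor.Suz := Nat.finite_of_card_ne_zero (by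
    rw [Cfsg.Agent.SporadicRecognition.SuzOrder.card_Suz]; norm_num)
  refine of_out e (by rw [Cfsg.Agent.S2074.result]) ?_
  intro G _ _ S C D hcfg hs hG
  obtain ⟨f⟩ := hG
  have : Fact (Nat.Prime 3) := ⟨Nat.prime_three⟩
  have hcard := H812.FullSuz.fullP_H.2
  have hfin2 : Finite LThreeCo1Twelve.Gam.H := Nat.finite_of_card_ne_zero (by rw [hcard]; norm_num)
  have hsim := Cfsg.Agent.LThreeCo1Twelve.Gam.simple
  obtain ⟨g, hg, hk⟩ := Cfsg.Agent.H811.SuzCov.cov
  refine false_of_weak_equiv hcfg (f.trans e) (y := Cfsg.Agent.SuzThree.ThreeWr.y0) ?_ ?_ g hg hsim ?_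
    fun c => (hk c).1
  · intro h1
    have h2 := H812.FullSuz.index_y0
    rw [h1, index_top] at h2
    norm_num at h2
  · rw [H812.FullSuz.index_y0]
    norm_num
  · intro h1
    have h2 : ¬ Group.IsSolvable LThreeCo1Twelve.Gam.H :=
      Cfsg.Agent.H112.Rad3.not_solvable hcard (by norm_num) (by norm_num)
    exact h2 (Group.isSolvable_of_comm h1)

end Cfsg.Agent.H701.Wf
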