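import Cfsg.Agent.H701.Wf.McLLy
import Cfsg.Agent.H478.Th3C
import Cfsg.Agent.S2083

/-!
# S3826, the row `Th` at the prime three (helper701, task 4036)

One class of involutions `t`, every element of order three commutes with an involution, `C(t) / O₂(C(t)) ≅ A₉`.
-/

set_option autoImplicit false

namespace Cfsg.Agent.H701.Wf

universe u v w

open Subgroup Cfsg Cfsg.Agent.H533.Wf Cfsg.Agent

/-- **the row `Th`** -/
theorem wf_th {K : Type v} [Group K] (h : Cfsg.Spor.IsoTh K) : WfRow.{u, v} 3 K := by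
  obtain ⟨e⟩ := h
  have hfin : Finite Spor.Th := Cfsg.Agent.H478.RadTh.fin
  refine of_out e (by rw [Cfsg.Agent.S2083.result]; norm_num) ?_
  intro G _ _ S C D hcfg hs hG
  obtain ⟨f⟩ := hG
  have : Fact (Nat.Prime 3) := ⟨Nat.prime_three⟩
  have ht := Cfsg.Agent.MonsterX.ThOneClass.orderOf_a
  obtain ⟨g, hg, hk⟩ := Cfsg.Agent.CpAutTh.Mid.exists_epi_cent Cfsg.Agent.KFacts.Th.Main.ctx
    Cfsg.Agent.H478.RadTh.hone ht
  refine false_of_invol_equiv hcfg (f.trans e) (t := Cfsg.Agent.Th.IndexUpper.gTh 1) ?_ g hg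
    (alternatingGroup.isSimpleGroup (by simp)) (alt_not_comm (by norm_num)) ?_ Cfsg.Agent.H478.RadTh.hone ?_
  · intro h1
    have h2 : Cfsg.Agent.Th.IndexUpper.gTh 1 ∈ center Spor.Th := mem_center_iff.2 fun y =>
      mem_centralizer_singleton_iff.1
        (show y ∈ centralizer ({Cfsg.Agent.Th.IndexUpper.gTh 1} : Set Spor.Th) by rw [h1]; exact mem_top y)
    rw [Cfsg.Agent.H478.RadTh.center_Th, mem_bot] at h2
    rw [h2, orderOf_one] at ht
    exact absurd ht (by norm_num)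
  · intro x hx hgx
    obtain ⟨n, hn⟩ := hk ⟨x, hgx⟩
    have hn' : x ^ 2 ^ n = 1 := congrArg Subtype.val hn
    have h1 := orderOf_dvd_of_pow_eq_one hn'
    rw [hx] at h1
    exact absurd ((Nat.prime_dvd_prime_iff_eq Nat.prime_three Nat.prime_two).1 (Nat.prime_three.dvd_of_dvd_pow h1))
      (by norm_num)
  · intro x hx
    obtain ⟨t, ht, hc⟩ := Cfsg.Agent.H478.ThThree.exists_invol hx
    exact ⟨t, ht, hc.symm⟩

end Cfsg.Agent.H701.Wf
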